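import Cfsg.Agent.H247.EPR.ReeMain
import Cfsg.Agent.H742.EX.EPi
import Cfsg.Agent.S4040

/-!
# Extremely primitive groups: the small Ree groups, socle `L₂(8)` (helper247)
-/

set_option autoImplicit false
set_option linter.unusedSectionVars false

namespace Cfsg.Agent.H247.EPR

open MulAction Subgroup Cfsg.Agent.H284 Cfsg.Agent.H209.EPX
open Cfsg.Agent.H963.ReeCtx Cfsg.Agent.H963.ReeSep Cfsg.Agent.LieRecognition

open scoped Pointwise

/-- centralisers of elements of prime order `≥ 5` -/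
theorem cent_le_prime {K : Type} [Field K] [Fintype K] {G : Type} [Group G] [Finite G] {m : ℕ}
    {U : K → K → K → G} {h : Kˣ → G} {n : G} (D : ReeAbs.Data m U h n) (hm : 1 ≤ m)
    (hK : Fintype.card K = 3 ^ (2 * m + 1)) (hG : commutator G = ⊤)
    (hcyc : ∀ x : G, x ≠ 1 → orderOf x ∣ (3 ^ (2 * m + 1)) ^ 2 - 3 ^ (2 * m + 1) + 1 →
      IsCyclic (centralizer {x}) ∧
        Nat.card (normalizer (centralizer {x} : Set G)) ∣ 6 * Nat.card (centralizer {x}))
    {x : G} {s : ℕ} (hs : s.Prime) (hs5 : 5 ≤ s) (hx : orderOf x = s) :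
    Nat.card (centralizer {x} : Subgroup G) ≤ 3 ^ (2 * m + 1) + 3 ^ (m + 1) + 1 := by
  classical
  have : CharP K 3 := ReeAbs.charP_three hK
  have Dl := ReeSetup.local_of_data D hK
  have ar := ReeClass.arith m
  obtain ⟨f, t₀, S⟩ := ReeSetup.exists_setup D hK hG Dl
  obtain ⟨A1, A2, z1, z2, k1, k2, n1, n2, x1, x2, hcov⟩ := ReeSetup.exists_tori D hm hK hG hcyc
  have hodd : Odd s := hs.odd_of_ne_two (by omega)
  have hm0 : 0 < 3 ^ m := by positivity
  have hx1 : x ≠ 1 := by
    rintro rfl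
    rw [orderOf_one] at hx
    omega
  have hcard : ∀ g : G, Nat.card (centralizer {x} : Subgroup G) = Nat.card (centralizer {g⁻¹ * x * g} : Subgroup G) := by
    intro g
    refine Nat.card_congr ⟨fun y => ⟨g⁻¹ * y * g, ?_⟩, fun y => ⟨g * y * g⁻¹, ?_⟩, ?_, ?_⟩
    · have h1 := mem_centralizer_singleton_iff.1 y.2
      rw [mem_centralizer_singleton_iff]
      exact ReeClass.conj_comm h1 g
    · have h1 := mem_centralizer_singleton_iff.1 y.2
      rw [mem_centralizer_singleton_iff]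
      calc g * (y : G) * g⁻¹ * x = g * (y * (g⁻¹ * x * g)) * g⁻¹ := by group
        _ = g * (g⁻¹ * x * g * y) * g⁻¹ := by rw [h1]
        _ = x * (g * y * g⁻¹) := by group
    · intro y; apply Subtype.ext; show g * (g⁻¹ * (y : G) * g) * g⁻¹ = y; group
    · intro y; apply Subtype.ext; show g⁻¹ * (g * (y : G) * g⁻¹) * g = y; group
  rcases ReeClass.classify Dl ar S hx1 (by rw [hx]; exact hodd) with ⟨g, hg⟩ | ⟨g, hg⟩ | ⟨g, hg⟩ | hg
  · exfalso
    have h1 := orderOf_dvd_of_pow_eq_one (Dl.U_exp _ hg)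
    rw [ReeClass.orderOf_conj, hx] at h1
    have h2 : (9 : ℕ) = 3 ^ 2 := by norm_num
    rw [h2] at h1
    have := (Nat.prime_dvd_prime_iff_eq hs Nat.prime_three).1 (hs.dvd_of_dvd_pow h1)
    omega
  · rw [hcard g]
    have h1 : (centralizer {g⁻¹ * x * g} : Subgroup G) ≤ ReeSplit.hSub D := by
      intro y hy
      exact Dl.cent_A _ hg (ReeClass.conj_ne hx1 g) y (mem_centralizer_singleton_iff.1 hy)
    refine (Subgroup.card_le_of_le h1).trans ?_
    rw [Dl.card_H]
    omega
  · rw [hcard g]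
    have h1 : (centralizer {g⁻¹ * x * g} : Subgroup G) ≤ S.EA := by
      intro y hy
      exact S.cent_x hg (ReeClass.conj_ne hx1 g) (mem_centralizer_singleton_iff.1 hy)
    refine (Subgroup.card_le_of_le h1).trans ?_
    rw [Cfsg.Agent.H125.ReeFull.card_EA]
    omega
  · obtain ⟨g, hg | hg⟩ := hcov x hx1 hg
    · rw [hcard g⁻¹, inv_inv, x1 _ hg (by have := ReeClass.conj_ne hx1 g⁻¹; rwa [inv_inv] at this), k1]
      omega
    · rw [hcard g⁻¹, inv_inv, x2 _ hg (by have := ReeClass.conj_ne hx1 g⁻¹; rwa [inv_inv] at this), k2]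

theorem card_fix_eq {G : Type*} [Group G] (x : G) :
    Nat.card {g : G // g⁻¹ * x * g = x} = Nat.card (centralizer {x} : Subgroup G) := by
  apply Nat.card_congr
  refine Equiv.subtypeEquivRight fun g => ?_
  rw [mem_centralizer_singleton_iff]
  constructor
  · intro h
    calc g * x = g * (g⁻¹ * x * g) := by rw [h]
      _ = x * g := by group
  · intro h
    rw [mul_assoc, ← h, inv_mul_cancel_left]

theorem sum_lt {n : ℚ} (hn : 3 ≤ n)
    (h : n - 1 ≤ n * ((503 : ℚ) ^ 2 / ((2 - 1) * 512487) + (10584 : ℚ) ^ 2 / ((7 - 1) * 200000000))) : False := by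
  have h1 : (503 : ℚ) ^ 2 / ((2 - 1) * 512487) + (10584 : ℚ) ^ 2 / ((7 - 1) * 200000000) < 3 / 5 := by norm_num
  nlinarith

theorem cls_two {q c : ℕ} (hq : 27 ≤ q) (h : q ^ 3 * (q - 1) * (q ^ 3 + 1) = c * (q * (q ^ 2 - 1))) : 512487 ≤ c := by
  obtain ⟨t, rfl⟩ : ∃ t, q = t + 1 := ⟨q - 1, by omega⟩
  have h1 : (t + 1) ^ 2 - 1 = t * (t + 2) := by
    have : (t + 1) ^ 2 = t * (t + 2) + 1 := by ring
    omega
  rw [h1, Nat.add_sub_cancel] at h
  have h2 : ((t + 1) * (t * (t + 2))) * ((t + 1) ^ 2 * (t ^ 2 + t + 1)) = ((t + 1) * (t * (t + 2))) * c := by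
    calc ((t + 1) * (t * (t + 2))) * ((t + 1) ^ 2 * (t ^ 2 + t + 1)) = (t + 1) ^ 3 * t * ((t + 1) ^ 3 + 1) := by ring
      _ = c * ((t + 1) * (t * (t + 2))) := h
      _ = _ := by ring
  have h3 := Nat.eq_of_mul_eq_mul_left (Nat.mul_pos (by omega) (Nat.mul_pos (by omega) (by omega))) h2
  rw [← h3]
  calc 512487 = 27 ^ 2 * (26 ^ 2 + 26 + 1) := by norm_num
    _ ≤ (t + 1) ^ 2 * (t ^ 2 + t + 1) := Nat.mul_le_mul (Nat.pow_le_pow_left hq 2)
      (Nat.add_le_add (Nat.add_le_add (Nat.pow_le_pow_left (by omega) 2) (by omega)) le_rfl)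

theorem cls_seven {q c k s : ℕ} (hq : 27 ≤ q) (hs : 3 * s ≤ q) (h : q ^ 3 * (q - 1) * (q ^ 3 + 1) = c * k)
    (hk : k ≤ q + s + 1) : 200000000 ≤ c := by
  have h1 : q * (3 * (q ^ 2 * (q - 1) * (q ^ 3 + 1))) ≤ q * (5 * c) := by
    calc q * (3 * (q ^ 2 * (q - 1) * (q ^ 3 + 1))) = 3 * (q ^ 3 * (q - 1) * (q ^ 3 + 1)) := by ring
      _ = c * (3 * k) := by rw [h]; ring
      _ ≤ c * (5 * q) := Nat.mul_le_mul le_rfl (by omega)
      _ = q * (5 * c) := by ring
  have h2 := Nat.le_of_mul_le_mul_left h1 (by omega)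
  have h3 : 27 ^ 2 * 26 * (27 ^ 3 + 1) ≤ q ^ 2 * (q - 1) * (q ^ 3 + 1) :=
    Nat.mul_le_mul (Nat.mul_le_mul (Nat.pow_le_pow_left hq 2) (by omega))
      (Nat.add_le_add (Nat.pow_le_pow_left hq 3) le_rfl)
  norm_num at h3
  omega

theorem ree_l28 : ReeEight := by
  intro K _ _ m hm hK H N hE hN F _ _ hF e
  classical
  have hfin : Finite ↥(Cfsg.Lie.twistedG2 K (3 ^ m)) := Cfsg.Agent.H125.TwoRee.finite_ree hm hK
  have C : Ctx ↥(Cfsg.Lie.twistedG2 K (3 ^ m)) m := Cfsg.Agent.H963.ReeFive.ctx_of_equiv hm hK (MulEquiv.refl _)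
  have hG := Cfsg.Agent.S1073.result hm hK
  have hGs := hG.1
  have hGna : ¬ ∀ a b : ↥(Cfsg.Lie.twistedG2 K (3 ^ m)), a * b = b * a := fun hc => hG.2 ⟨⟨hc⟩⟩
  have hcN : Nat.card N = 504 := by
    have hc := Cfsg.Agent.SmallSimple.PSLTwoPart.card_psl_two_even (F := F)
      (by rw [hF, show 8 = 2 ^ 3 by norm_num]; exact (Nat.even_pow.2 ⟨even_two, by omega⟩))
    rw [← Nat.card_congr e.toEquiv, hF] at hc
    rw [hc]
    norm_num
  have hNsim : IsSimpleGroup N := by
    have h1 : IsSimpleGroup (Matrix.ProjectiveSpecialLinearGroup (Fin 2) F) :=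
      Matrix.ProjectiveSpecialLinearGroup.rank_two_simple (by rw [Nat.card_eq_fintype_card, hF]; norm_num)
    exact e.isSimpleGroup
  have hHn : (N.subgroupOf H).Normal := by
    constructor
    intro x hx g
    exact hN.nrm g g.2 x hx
  have hcN' : Nat.card (N.subgroupOf H) = 504 := by
    rw [Nat.card_congr (Subgroup.subgroupOfEquivOfLe hN.le).toEquiv, hcN]
  -- `|H|`
  have hHd : Nat.card H ∣ 10584 := by
    have h1 := (big_two C H (N.subgroupOf H) hHn (by rw [hcN']; norm_num)).1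
    rw [hcN'] at h1
    exact h1
  -- `N` is not solvable
  have hNsol : ¬ Group.IsSolvable N := by
    intro hsol
    have hcm := IsSimpleGroup.comm_iff_isSolvable.2 hsol
    obtain ⟨P⟩ : Nonempty (Sylow 2 N) := inferInstance
    have hP8 : Nat.card (P : Subgroup N) = 8 := by
      rw [P.card_eq_multiplicity, hcN]
      have : Nat.factorization 504 2 = 3 := by
        rw [show 504 = 2 ^ 3 * 63 by norm_num, Nat.factorization_mul (by norm_num) (by norm_num),
          Nat.Prime.factorization_pow Nat.prime_two]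
        simp [Nat.factorization_eq_zero_of_not_dvd]
      rw [this]
      norm_num
    have hPn : (P : Subgroup N).Normal := by
      constructor
      intro x hx g
      rw [hcm g x, mul_inv_cancel_right]
      exact hx
    rcases hPn.eq_bot_or_eq_top with h1 | h1
    · rw [h1, Subgroup.card_bot] at hP8
      omega
    · rw [h1, Subgroup.card_top, hcN] at hP8
      omega
  -- involutions are in `N`
  have hinv : ∀ t ∈ H, t * t = 1 → t ∈ N := by
    intro t ht ht2
    by_contra htN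
    let x : H ⧸ N.subgroupOf H := QuotientGroup.mk ⟨t, ht⟩
    have hx1 : x ≠ 1 := by
      intro e1
      rw [QuotientGroup.eq_one_iff] at e1
      exact htN e1
    have hx2 : x ^ 2 = 1 := by
      show (QuotientGroup.mk ((⟨t, ht⟩ : H) ^ 2) : H ⧸ N.subgroupOf H) = 1
      have : (⟨t, ht⟩ : H) ^ 2 = 1 := Subtype.ext (by rw [pow_two]; exact ht2)
      rw [this]
      rfl
    have hxo : orderOf x = 2 := orderOf_eq_prime hx2 hx1
    have h2 : 2 ∣ Nat.card (H ⧸ N.subgroupOf H) := by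
      rw [← hxo]
      exact orderOf_dvd_natCard x
    have h3 := Subgroup.card_eq_card_quotient_mul_card_subgroup (N.subgroupOf H)
    rw [hcN'] at h3
    apply not16 C
    refine Dvd.dvd.trans ?_ (Subgroup.card_subgroup_dvd_card H)
    rw [h3]
    exact (mul_dvd_mul h2 (by norm_num : 8 ∣ 504))
  have A := ar hm
  have hM : ∀ g ∉ H, ∃ r ∈ ({2, 7} : Finset ℕ),
      r ∣ Nat.card (H ⊓ cj g H : Subgroup ↥(Cfsg.Lie.twistedG2 K (3 ^ m))) := by
    intro g hg
    by_contra hcon
    push Not at hcon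
    have h2 := hcon 2 (by simp)
    have h7 := hcon 7 (by simp)
    have hMd : Nat.card (H ⊓ cj g H : Subgroup ↥(Cfsg.Lie.twistedG2 K (3 ^ m))) ∣ 10584 :=
      (Subgroup.card_dvd_of_le inf_le_left).trans hHd
    have c2 : Nat.Coprime (Nat.card (H ⊓ cj g H : Subgroup ↥(Cfsg.Lie.twistedG2 K (3 ^ m)))) (2 ^ 3) :=
      (((Nat.Prime.coprime_iff_not_dvd Nat.prime_two).2 h2).symm).pow_right 3
    have c7 : Nat.Coprime (Nat.card (H ⊓ cj g H : Subgroup ↥(Cfsg.Lie.twistedG2 K (3 ^ m)))) (7 ^ 2) :=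
      (((Nat.Prime.coprime_iff_not_dvd (by norm_num : Nat.Prime 7)).2 h7).symm).pow_right 2
    have h5 : 10584 = 2 ^ 3 * (7 ^ 2 * 3 ^ 3) := by norm_num
    rw [h5] at hMd
    have h3 := c7.dvd_of_dvd_mul_left (c2.dvd_of_dvd_mul_left hMd)
    obtain ⟨k, -, hk⟩ := (Nat.dvd_prime_pow Nat.prime_three).1 h3
    have hcM : Nat.card ((H ⊓ cj g H).subgroupOf H) = 3 ^ k := by
      rw [Nat.card_congr (Subgroup.subgroupOfEquivOfLe inf_le_left).toEquiv, hk]
    have : Fact (Nat.Prime 3) := ⟨Nat.prime_three⟩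
    have hp : IsPGroup 3 ((H ⊓ cj g H).subgroupOf H) := IsPGroup.of_card hcM
    have hodd : Odd (Nat.card ((H ⊓ cj g H).subgroupOf H)) := by rw [hcM]; exact Odd.pow (by decide)
    have hsol := Cfsg.Agent.S4040.result _ (isCoatom_two hE hg) hp.isNilpotent hodd
    exact hNsol (Group.isSolvable_of_isSolvable_injective (Subgroup.inclusion_injective hN.le))
  have key := Cfsg.Agent.H742.EX.e_pi_crude H {2, 7} (by
      intro r hr
      simp only [Finset.mem_insert, Finset.mem_singleton] at hr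
      rcases hr with rfl | rfl <;> norm_num) hM
    (fun r => if r = 2 then 503 else 10584) (fun r => if r = 2 then 512487 else 200000000)
    (by
      intro r hr
      simp only [Finset.mem_insert, Finset.mem_singleton] at hr
      rcases hr with rfl | rfl
      · show (Cfsg.Agent.H742.EX.el H 2).card ≤ 503
        have h1 : Cfsg.Agent.H742.EX.el H 2 ⊆ (Set.toFinite (N : Set ↥(Cfsg.Lie.twistedG2 K (3 ^ m)))).toFinset.erase 1 := by
          intro x hx
          obtain ⟨hxH, hx2⟩ := Cfsg.Agent.H742.EX.mem_el.1 hx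
          rw [Finset.mem_erase]
          refine ⟨?_, ?_⟩
          · rintro rfl
            rw [orderOf_one] at hx2
            omega
          · rw [Set.Finite.mem_toFinset]
            refine hinv x hxH ?_
            rw [← pow_two, ← hx2, pow_orderOf_eq_one]
        refine (Finset.card_le_card h1).trans ?_
        rw [Finset.card_erase_of_mem (by rw [Set.Finite.mem_toFinset]; exact one_mem N),
          ← Set.ncard_eq_toFinset_card, ← Nat.card_coe_set_eq]
        show Nat.card N - 1 ≤ 503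
        omega
      · show (Cfsg.Agent.H742.EX.el H 7).card ≤ 10584
        have h1 : Cfsg.Agent.H742.EX.el H 7 ⊆ (Set.toFinite (H : Set ↥(Cfsg.Lie.twistedG2 K (3 ^ m)))).toFinset := by
          intro x hx
          obtain ⟨hxH, hx2⟩ := Cfsg.Agent.H742.EX.mem_el.1 hx
          rw [Set.Finite.mem_toFinset]
          exact hxH
        refine (Finset.card_le_card h1).trans ?_
        rw [← Set.ncard_eq_toFinset_card, ← Nat.card_coe_set_eq]
        exact Nat.le_of_dvd (by norm_num) hHd)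
    (by
      intro r hr
      simp only [Finset.mem_insert, Finset.mem_singleton] at hr
      rcases hr with rfl | rfl <;> norm_num)
    (by
      intro r hr x hx hxr
      have h1 := Cfsg.Agent.H742.EX.card_G x
      rw [card_fix_eq, C.card_G] at h1
      simp only [Finset.mem_insert, Finset.mem_singleton] at hr
      rcases hr with rfl | rfl
      · show 512487 ≤ Cfsg.Agent.H742.EX.cG x
        rw [C.cardC x (by rintro rfl; rw [orderOf_one] at hxr; omega)
          (by rw [← pow_two, ← hxr, pow_orderOf_eq_one])] at h1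
        exact cls_two A.q27 h1
      · show 200000000 ≤ Cfsg.Agent.H742.EX.cG x
        exact cls_seven A.q27 A.sle h1 (cent_le_prime (ReeFinal.data hK) hm hK (Cfsg.Agent.S1116.result hK hm)
          (fun x hx hx1 => ReeTorusTw.isCyclic_centralizer hK hx hx1) (by norm_num) (by norm_num) hxr))
  have hn3 : 3 ≤ H.index := by
    have h1 := H.card_mul_index
    have h2 : Nat.card H ≤ 10584 := Nat.le_of_dvd (by norm_num) hHd
    by_contra hcon
    have h3 : Nat.card ↥(Cfsg.Lie.twistedG2 K (3 ^ m)) ≤ 10584 * 2 := by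
      rw [← h1]
      exact Nat.mul_le_mul h2 (by omega)
    rw [C.card_G] at h3
    have h4 : 27 ^ 3 * 26 * (27 ^ 3 + 1) ≤ (3 ^ (2 * m + 1)) ^ 3 * (3 ^ (2 * m + 1) - 1) * ((3 ^ (2 * m + 1)) ^ 3 + 1) :=
      Nat.mul_le_mul (Nat.mul_le_mul (Nat.pow_le_pow_left A.q27 3) (by have := A.q27; omega))
        (Nat.add_le_add (Nat.pow_le_pow_left A.q27 3) le_rfl)
    have h5 := h4.trans h3
    norm_num at h5
  refine sum_lt (n := (H.index : ℚ)) (by exact_mod_cast hn3) ?_
  rw [Finset.sum_pair (by norm_num)] at key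
  simpa using key

end Cfsg.Agent.H247.EPR
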