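import Cfsg.Agent.H247.EPR.KillSz
import Cfsg.Agent.H247.EPR.ReeEight
import Cfsg.Agent.H137.EPX.ReeAff

/-!
# `²G₂(q)`: no extremely primitive stabiliser (helper247)
-/

set_option autoImplicit false

namespace Cfsg.Agent.H247.EPR

open Cfsg.Agent.H284 Cfsg.Agent.H209.EPX Cfsg.Agent.H542.EPX

/-- **`²G₂(3^{2m+1})` is not extremely primitive**, any group isomorphic to it -/
theorem no_ree' {G : Type*} [Group G] (hG : Cfsg.Lie.IsoRee G) {H : Subgroup G} (h : EP H) : False :=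
  no_ree (fun hm hK _ _ h => Cfsg.Agent.H137.EPX.ree_aff hm hK h) ree_l28 hG h

/-- **`Sz`**: no extremely primitive stabiliser -/
theorem noEP_sz (F : Type) [Field F] [Fintype F] (m : ℕ) (hm : 1 ≤ m) (hF : Fintype.card F = 2 ^ (2 * m + 1)) :
    NoEP ↥(Cfsg.Lie.Sz F (2 ^ (m + 1))) :=
  fun _ h => no_sz ⟨F, inferInstance, inferInstance, m, hm, hF, ⟨MulEquiv.refl _⟩⟩ h

/-- **`²G₂`**: no extremely primitive stabiliser -/
theorem noEP_ree (K : Type) [Field K] [Fintype K] (m : ℕ) (hm : 1 ≤ m) (hK : Fintype.card K = 3 ^ (2 * m + 1)) :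
    NoEP ↥(Cfsg.Lie.twistedG2 K (3 ^ m)) :=
  fun _ h => no_ree' ⟨K, inferInstance, inferInstance, m, hm, hK, ⟨MulEquiv.refl _⟩⟩ h

theorem kill_ree (K : Type) [Field K] [Fintype K] (m : ℕ) (hm : 1 ≤ m) (hK : Fintype.card K = 3 ^ (2 * m + 1)) :
    Kill 3 ↥(Cfsg.Lie.twistedG2 K (3 ^ m)) :=
  kill_of_no (noEP_ree K m hm hK)

end Cfsg.Agent.H247.EPR
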