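import Cfsg.Agent.H247.EPR.Sz
import Cfsg.Agent.H542.EPX.Cells

/-!
# `Kill 2 (Sz F (2 ^ (m + 1)))` (helper247)
-/

set_option autoImplicit false

namespace Cfsg.Agent.H247.EPR

open Cfsg.Agent.H284 Cfsg.Agent.H209.EPX Cfsg.Agent.H542.EPX

theorem kill_of_no {p : ℕ} {G : Type} [Group G] (h : ∀ H : Subgroup G, EP H → False) : Kill p G where
  spor := fun H N T _ e he _ => h H he.ep
  cross := fun H N T _ e he _ _ => h H he.ep
  crossk := fun H N T _ k e _ he _ => h H he.ep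
  own := fun H N T _ k e he _ => h H he.ep
  aff := fun H X he => h H he.ep
  two := fun H N N' T _ k e he => h H he.ep

theorem kill_sz (F : Type) [Field F] [Fintype F] (m : ℕ) (hm : 1 ≤ m) (hF : Fintype.card F = 2 ^ (2 * m + 1)) :
    Kill 2 ↥(Cfsg.Lie.Sz F (2 ^ (m + 1))) :=
  kill_of_no fun _ h => no_sz ⟨F, inferInstance, inferInstance, m, hm, hF, ⟨MulEquiv.refl _⟩⟩ h

end Cfsg.Agent.H247.EPR
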