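import Cfsg.Agent.H247.EPR.Core
import Cfsg.Agent.S2247

/-!
# Extremely primitive groups: socle of rank one in its characteristic (helper247)

`RO p Y` : the Sylow `p`-subgroups of `Y` are TI and there are `|P| + 1` of them; `P` is transitive on the others.
`RO.mem` : `H` a stabiliser with simple normal subgroup `N`, `RO p N`, `P` Sylow `p`-subgroup of `N`: if `a ∉ H`
centralises `P` then `N_N(P) ≤ H ∩ H^a`.
-/

set_option autoImplicit false
set_option linter.unusedSectionVars false

namespace Cfsg.Agent.H247.EPR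

open MulAction Subgroup Cfsg.Agent.H284 Cfsg.Agent.H209.EPX

open scoped Pointwise

/-- TI Sylow `p`-subgroups, `|P| + 1` in number -/
structure RO (p : ℕ) (Y : Type*) [Group Y] : Prop where
  ti : ∀ P Q : Sylow p Y, ∀ x : Y, x ≠ 1 → x ∈ (P : Subgroup Y) → x ∈ (Q : Subgroup Y) → P = Q
  num : ∀ P : Sylow p Y, Nat.card (Sylow p Y) = Nat.card (P : Subgroup Y) + 1

theorem RO.ne_bot {p : ℕ} [hp : Fact p.Prime] {Y : Type*} [Group Y] [Finite Y] (h : RO p Y) (P : Sylow p Y) :
    (P : Subgroup Y) ≠ ⊥ := by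
  intro e
  have h1 := h.num P
  rw [e, Subgroup.card_bot] at h1
  have h2 : Subsingleton (Sylow p Y) := by
    refine ⟨fun A B => ?_⟩
    obtain ⟨g, rfl⟩ := MulAction.exists_smul_eq Y P A
    obtain ⟨k, rfl⟩ := MulAction.exists_smul_eq Y P B
    have h3 : ∀ g : Y, g • P = P := by
      intro g
      apply Sylow.ext
      rw [Sylow.coe_subgroup_smul, e]
      ext x
      rw [Subgroup.mem_pointwise_smul_iff_inv_smul_mem, mem_bot, mem_bot, MulAut.smul_def, MulAut.conj_inv_apply]
      constructor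
      · intro hx
        have h4 := congrArg (fun z => g * z * g⁻¹) hx
        simpa [mul_assoc] using h4
      · intro hx
        rw [hx]
        group
    rw [h3, h3]
  have h3 : Nat.card (Sylow p Y) ≤ 1 := Finite.card_le_one_iff_subsingleton.2 h2
  omega

/-- `P` permutes the other Sylow subgroups transitively -/
theorem RO.trans {p : ℕ} [hp : Fact p.Prime] {Y : Type*} [Group Y] [Finite Y] (h : RO p Y) (P : Sylow p Y)
    (Q R : Sylow p Y) (hQ : Q ≠ P) (hR : R ≠ P) : ∃ x ∈ (P : Subgroup Y), x • Q = R := by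
  classical
  -- the stabiliser of `Q` in `P` is trivial
  have hinj : Function.Injective (fun x : (P : Subgroup Y) => ((x : Y) • Q : Sylow p Y)) := by
    intro x y e
    have e' : (x : Y) • Q = (y : Y) • Q := e
    have h1 : ((y : Y)⁻¹ * x) • Q = Q := by rw [mul_smul, e', inv_smul_smul]
    have h2 : (y : Y)⁻¹ * x ∈ (P : Subgroup Y) := mul_mem (inv_mem y.2) x.2
    have h3 : (y : Y)⁻¹ * x ∈ Subgroup.normalizer ((Q : Subgroup Y) : Set Y) := Sylow.smul_eq_iff_mem_normalizer.1 h1
    have h4 : (y : Y)⁻¹ * x ∈ (Q : Subgroup Y) := by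
      have h5 := (P.isPGroup').inf_normalizer_sylow Q
      have h6 : (y : Y)⁻¹ * x ∈ (P : Subgroup Y) ⊓ (Q : Subgroup Y) := h5.le ⟨h2, h3⟩
      exact h6.2
    have h7 : (y : Y)⁻¹ * x = 1 := by
      by_contra hne
      exact hQ (h.ti Q P _ hne h4 h2)
    rw [inv_mul_eq_one] at h7
    exact Subtype.ext h7.symm
  -- it avoids `P`
  have hne : ∀ x : (P : Subgroup Y), ((x : Y) • Q : Sylow p Y) ≠ P := by
    intro x e
    apply hQ
    have h1 : (x : Y) • P = P := by
      refine Sylow.smul_eq_iff_mem_normalizer.2 ?_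
      exact Subgroup.le_normalizer x.2
    exact MulAction.injective (x : Y) (e.trans h1.symm)
  let f : ↥(P : Subgroup Y) → {S : Sylow p Y // S ≠ P} := fun x => ⟨(x : Y) • Q, hne x⟩
  have hf : Function.Injective f := fun x y e => hinj (Subtype.ext_iff.1 e)
  have hcard : Nat.card (P : Subgroup Y) = Nat.card {S : Sylow p Y // S ≠ P} := by
    have := Fintype.ofFinite (Sylow p Y)
    rw [Nat.card_eq_fintype_card (α := {S : Sylow p Y // S ≠ P}), Fintype.card_subtype_compl,
      Fintype.card_subtype_eq, ← Nat.card_eq_fintype_card, h.num P, Nat.add_sub_cancel]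
  have hb : Function.Bijective f := (Nat.bijective_iff_injective_and_card f).2 ⟨hf, hcard⟩
  obtain ⟨x, hx⟩ := hb.2 ⟨R, hR⟩
  exact ⟨x, x.2, Subtype.ext_iff.1 hx⟩

theorem RO.mem {p : ℕ} [hp : Fact p.Prime] {G : Type*} [Group G] [Finite G] {H N : Subgroup G} (hE : EP H)
    (hN : NIn N H) [hs : IsSimpleGroup N] (h : RO p N) (P : Sylow p N) {a : G} (ha : a ∉ H)
    (hc : ∀ x : N, x ∈ (P : Subgroup N) → a * (x : G) = x * a) {y : N}
    (hy : y ∈ Subgroup.normalizer ((P : Subgroup N) : Set N)) : (y : G) ∈ cj a H := by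
  classical
  have hNne : N ≠ ⊥ := by
    intro e
    have h1 : Nontrivial N := hs.toNontrivial
    rw [Subgroup.nontrivial_iff_ne_bot] at h1
    exact h1 e
  set E : Subgroup G := (P : Subgroup N).map N.subtype with hEdef
  have hEN : E ≤ N := by rintro _ ⟨x, _, rfl⟩; exact x.2
  have hEM : E ≤ H ⊓ cj a H := by
    rintro _ ⟨x, hx, rfl⟩
    refine ⟨hN.le x.2, mem_cj.2 ?_⟩
    have h1 := hc x hx
    have h2 : a⁻¹ * (N.subtype x) * a = x := by
      show a⁻¹ * (x : G) * a = x
      rw [mul_assoc, ← h1, inv_mul_cancel_left]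
    rw [h2]
    exact hN.le x.2
  have hkey := Cfsg.Agent.S2247.le_or_eq_top hs P (h.ne_bot P) (fun Q R => h.trans P Q R)
    ((H ⊓ cj a H).subgroupOf N) (by
      intro x hx
      rw [Subgroup.mem_subgroupOf]
      exact hEM ⟨x, hx, rfl⟩)
  rcases hkey with hM0 | hM0
  swap
  · exfalso
    rw [Subgroup.subgroupOf_eq_top] at hM0
    exact hNne (hE.F1 hN.le hN.nrm ha (hM0.trans inf_le_right))
  -- `M` normalises `E`
  have hME : ∀ g ∈ H ⊓ cj a H, ∀ x ∈ E, g * x * g⁻¹ ∈ E := by
    intro g hg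
    have hconjN : ∀ x ∈ N, g * x * g⁻¹ ∈ N := fun x hx => hN.nrm g (mem_inf.1 hg).1 x hx
    let P' : Subgroup N := ((P : Subgroup N).map N.subtype |>.map (MulAut.conj g).toMonoidHom).subgroupOf N
    have hP'mem : ∀ z : N, z ∈ P' ↔ g⁻¹ * (z : G) * g ∈ E := by
      intro z
      rw [Subgroup.mem_subgroupOf]
      exact mem_cj
    have hE'N : (E.map (MulAut.conj g).toMonoidHom) ≤ N := by
      rintro _ ⟨x, hx, rfl⟩
      exact hconjN x (hEN hx)
    have hP'M : P' ≤ (H ⊓ cj a H).subgroupOf N := by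
      intro z hz
      rw [hP'mem] at hz
      rw [Subgroup.mem_subgroupOf]
      have h1 := (H ⊓ cj a H).mul_mem ((H ⊓ cj a H).mul_mem hg (hEM hz)) ((H ⊓ cj a H).inv_mem hg)
      have e : g * (g⁻¹ * (z : G) * g) * g⁻¹ = z := by group
      rwa [e] at h1
    have hcE : Nat.card E = Nat.card (P : Subgroup N) :=
      (Nat.card_congr ((P : Subgroup N).equivMapOfInjective _ N.subtype_injective).toEquiv).symm
    have hcP' : Nat.card P' = Nat.card (P : Subgroup N) := by
      rw [Nat.card_congr (Subgroup.subgroupOfEquivOfLe hE'N).toEquiv, ← hcE]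
      exact (Nat.card_congr (E.equivMapOfInjective _ (MulAut.conj g).injective).toEquiv).symm
    have hP'p : IsPGroup p P' := by
      obtain ⟨n, hn⟩ := P.isPGroup'.exists_card_eq
      exact IsPGroup.of_card (n := n) (by rw [hcP', hn])
    have h1 : P' ≤ (P : Subgroup N) := by
      have h2 := hP'p.inf_normalizer_sylow P
      intro z hz
      have h3 : z ∈ P' ⊓ (P : Subgroup N) := h2.le ⟨hz, hM0 (hP'M hz)⟩
      exact h3.2
    intro x hx
    have h3 : (⟨g * x * g⁻¹, hconjN x (hEN hx)⟩ : N) ∈ P' := by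
      rw [hP'mem]
      have e : g⁻¹ * (g * x * g⁻¹) * g = x := by group
      show g⁻¹ * (g * x * g⁻¹) * g ∈ E
      rw [e]
      exact hx
    exact ⟨_, h1 h3, rfl⟩
  let L : Subgroup G := H ⊓ Subgroup.normalizer (E : Set G)
  have hML : H ⊓ cj a H ≤ L := by
    intro g hg
    refine mem_inf.2 ⟨(mem_inf.1 hg).1, ?_⟩
    rw [Subgroup.mem_normalizer_iff]
    intro x
    constructor
    · exact hME g hg x
    · intro hx
      have h1 := hME g⁻¹ (inv_mem hg) _ hx
      have e : g⁻¹ * (g * x * g⁻¹) * g⁻¹⁻¹ = x := by group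
      rwa [e] at h1
  have hyE : ∀ x ∈ E, (y : G) * x * (y : G)⁻¹ ∈ E := by
    rintro _ ⟨x, hx, rfl⟩
    exact ⟨_, (Subgroup.mem_normalizer_iff.1 hy x).1 hx, rfl⟩
  have hyL : (y : G) ∈ L := by
    refine mem_inf.2 ⟨hN.le y.2, ?_⟩
    rw [Subgroup.mem_normalizer_iff]
    intro x
    constructor
    · exact hyE x
    · intro hx
      have h2 : ∀ z ∈ E, (y : G)⁻¹ * z * y ∈ E := by
        rintro _ ⟨z, hz, rfl⟩
        have h1 := (Subgroup.mem_normalizer_iff.1 (inv_mem hy) z).1 hz
        rw [inv_inv] at h1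
        exact ⟨_, h1, rfl⟩
      have h1 := h2 _ hx
      have e : (y : G)⁻¹ * (y * x * (y : G)⁻¹) * y = x := by group
      rwa [e] at h1
  rcases hE.two a ha L hML inf_le_left with h1 | h1
  · rw [h1] at hyL
    exact (mem_inf.1 hyL).2
  · exfalso
    -- `E` is normal in `N`
    have h2 : (P : Subgroup N).Normal := by
      constructor
      intro x hx g
      have h3 : (g : G) ∈ L := by rw [h1]; exact hN.le g.2
      have h4 := (Subgroup.mem_normalizer_iff.1 (mem_inf.1 h3).2 (x : G)).1 ⟨x, hx, rfl⟩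
      obtain ⟨z, hz, e⟩ := h4
      have : z = g * x * g⁻¹ := Subtype.ext e
      rwa [← this]
    have h3 : Subsingleton (Sylow p N) := by
      refine ⟨fun A B => ?_⟩
      obtain ⟨g, rfl⟩ := MulAction.exists_smul_eq N P A
      obtain ⟨k, rfl⟩ := MulAction.exists_smul_eq N P B
      have h5 : ∀ g : N, g • P = P := fun g => Sylow.smul_eq_of_normal
      rw [h5, h5]
    have h4 : Nat.card (Sylow p N) ≤ 1 := Finite.card_le_one_iff_subsingleton.2 h3
    have h5 := h.num P
    have h6 : 0 < Nat.card (P : Subgroup N) := Nat.card_pos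
    omega

end Cfsg.Agent.H247.EPR
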