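import Cfsg.Agent.H247.EPR.RankOne
import Cfsg.Agent.H963.ReeFive

/-!
# Extremely primitive groups: the small Ree groups, base facts (helper247)
-/

set_option autoImplicit false
set_option linter.unusedSectionVars false

namespace Cfsg.Agent.H247.EPR

open MulAction Subgroup Cfsg.Agent.H284 Cfsg.Agent.H209.EPX
open Cfsg.Agent.LieRecognition

open scoped Pointwise

instance fact_three : Fact (Nat.Prime 3) := ⟨Nat.prime_three⟩

section data

variable {K : Type} [Field K] [Fintype K] {G : Type} [Group G] [Finite G] {m : ℕ} {U : K → K → K → G} {h : Kˣ → G}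
  {n : G} (D : ReeAbs.Data m U h n)

/-- the elements `U 0 u v` -/
def aU : Subgroup G where
  carrier := {g | ∃ u v, g = U 0 u v}
  mul_mem' := by
    rintro _ _ ⟨u, v, rfl⟩ ⟨u', v', rfl⟩
    refine ⟨u + u', v + v', ?_⟩
    rw [D.U_mul]
    have h0 : (0 : K) ^ (3 ^ (m + 1)) = 0 := zero_pow (by positivity)
    simp [h0]
  one_mem' := ⟨0, 0, D.U_zero.symm⟩
  inv_mem' := by
    rintro _ ⟨u, v, rfl⟩
    refine ⟨-u, -v, ?_⟩
    rw [inv_eq_iff_mul_eq_one, D.U_mul]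
    have h0 : (0 : K) ^ (3 ^ (m + 1)) = 0 := zero_pow (by positivity)
    simp [h0, D.U_zero]

theorem mem_aU {g : G} : g ∈ aU D ↔ ∃ u v, g = U 0 u v := Iff.rfl

theorem aU_le : aU D ≤ ReeSylowThree.uSub D := by
  rintro _ ⟨u, v, rfl⟩
  exact ⟨0, u, v, rfl⟩

theorem aU_comm : ∀ a ∈ aU D, ∀ b ∈ aU D, a * b = b * a := by
  rintro _ ⟨u, v, rfl⟩ _ ⟨u', v', rfl⟩
  have h0 : (0 : K) ^ (3 ^ (m + 1)) = 0 := zero_pow (by positivity)
  rw [D.U_mul, D.U_mul]
  simp only [h0, mul_zero, sub_zero, add_zero]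
  rw [add_comm u, add_comm v]

theorem card_aU : Nat.card (aU D) = Fintype.card K ^ 2 := by
  let f : K × K → aU D := fun x => ⟨U 0 x.1 x.2, x.1, x.2, rfl⟩
  have hf : Function.Bijective f := by
    constructor
    · rintro ⟨u, v⟩ ⟨u', v'⟩ he
      obtain ⟨-, h1, h2⟩ := ReeSylowThree.U_injective D (Subtype.ext_iff.1 he)
      exact Prod.ext h1 h2
    · rintro ⟨_, u, v, rfl⟩
      exact ⟨(u, v), rfl⟩
  rw [← Nat.card_congr (Equiv.ofBijective f hf), Nat.card_prod, Nat.card_eq_fintype_card, sq]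

theorem mem_aU_of_cube (hK : Fintype.card K = 3 ^ (2 * m + 1)) {x : G} (hx : x ∈ ReeSylowThree.uSub D) :
    x ∈ aU D ↔ x ^ 3 = 1 := by
  obtain ⟨t, u, v, rfl⟩ := hx
  rw [ReeSplit.U_cube D hK]
  constructor
  · rintro ⟨u', v', e⟩
    obtain ⟨h1, -, -⟩ := ReeSylowThree.U_injective D e
    rw [h1]
    simp [D.U_zero]
  · intro e
    rw [← D.U_zero] at e
    obtain ⟨-, -, h1⟩ := ReeSylowThree.U_injective D e
    have h2 : t = 0 := by
      rw [neg_eq_zero, mul_eq_zero] at h1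
      rcases h1 with h1 | h1
      · exact pow_eq_zero_iff (by norm_num) |>.1 h1
      · exact pow_eq_zero_iff (by positivity) |>.1 h1
    rw [h2]
    exact ⟨u, v, rfl⟩

/-- the elements `U 0 0 v` -/
def zU : Subgroup G := ReeSylowThree.uSub D ⊓ Subgroup.centralizer (ReeSylowThree.uSub D : Set G)

theorem zU_le : zU D ≤ ReeSylowThree.uSub D := inf_le_left

theorem zU_comm : ∀ a ∈ zU D, ∀ b ∈ ReeSylowThree.uSub D, a * b = b * a := by
  intro a ha b hb
  exact (Subgroup.mem_centralizer_iff.1 (mem_inf.1 ha).2 b hb).symm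

theorem U_mem_zU (v : K) : U 0 0 v ∈ zU D := by
  refine mem_inf.2 ⟨⟨0, 0, v, rfl⟩, ?_⟩
  rw [Subgroup.mem_centralizer_iff]
  rintro _ ⟨t, u, w, rfl⟩
  rw [D.U_mul, D.U_mul]
  have h0 : (0 : K) ^ (3 ^ (m + 1)) = 0 := zero_pow (by positivity)
  simp only [h0, mul_zero, sub_zero, add_zero, zero_mul, zero_add]
  congr 1
  ring

theorem inv_conj_zU {g : G} (hg : g ∈ ReeSplit.bSub D) : ∀ a ∈ zU D, g⁻¹ * a * g ∈ zU D := by
  intro a ha
  refine mem_inf.2 ⟨ReeSplit.inv_conj_mem_uSub D hg (mem_inf.1 ha).1, ?_⟩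
  rw [Subgroup.mem_centralizer_iff]
  intro b hb
  have h1 := zU_comm D a ha _ (ReeSplit.conj_mem_uSub D hg hb)
  calc b * (g⁻¹ * a * g) = g⁻¹ * (g * b * g⁻¹ * a) * g := by group
    _ = g⁻¹ * (a * (g * b * g⁻¹)) * g := by rw [h1]
    _ = g⁻¹ * a * g * b := by group

theorem inv_conj_aU (hK : Fintype.card K = 3 ^ (2 * m + 1)) {g : G} (hg : g ∈ ReeSplit.bSub D) :
    ∀ a ∈ aU D, g⁻¹ * a * g ∈ aU D := by
  intro a ha
  have h1 := (mem_aU_of_cube D hK (aU_le D ha)).1 ha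
  rw [mem_aU_of_cube D hK (ReeSplit.inv_conj_mem_uSub D hg (aU_le D ha))]
  have h2 : (g⁻¹ * a * g) ^ 3 = g⁻¹ * a ^ 3 * g := by simp [pow_succ, mul_assoc]
  rw [h2, h1]
  group

variable (hK : Fintype.card K = 3 ^ (2 * m + 1))

include D hK

/-- every 3-subgroup is in `uSub` for some data -/
theorem exists_data {E : Subgroup G} (hE : IsPGroup 3 E) :
    ∃ (U' : K → K → K → G) (h' : Kˣ → G) (n' : G) (D' : ReeAbs.Data m U' h' n'), E ≤ ReeSylowThree.uSub D' := by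
  classical
  have Dl := ReeSetup.local_of_data D hK
  have ar := ReeClass.arith m
  have hidx := ReeClass.index_U Dl ar
  have hUp : IsPGroup 3 (ReeSylowThree.uSub D) := by
    apply IsPGroup.of_card (n := (2 * m + 1) * 3)
    rw [Dl.card_U, pow_mul]
  let S : Sylow 3 G := hUp.toSylow hidx
  have hS : (S : Subgroup G) = ReeSylowThree.uSub D := rfl
  obtain ⟨P, hP⟩ := hE.exists_le_sylow
  obtain ⟨g, rfl⟩ := MulAction.exists_smul_eq G S P
  refine ⟨_, _, _, Cfsg.Agent.H963.ReeFive.data_map (MulAut.conj g⁻¹) D, ?_⟩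
  intro x hx
  have h1 : x ∈ MulAut.conj g • (S : Subgroup G) := hP hx
  rw [Subgroup.mem_pointwise_smul_iff_inv_smul_mem, hS] at h1
  obtain ⟨t, u, v, e⟩ := h1
  refine ⟨t, u, v, ?_⟩
  show x = (MulAut.conj g⁻¹).symm (U t u v)
  rw [← e, MulEquiv.eq_symm_apply, map_inv]
  rfl

theorem isPGroup_uSub : IsPGroup 3 (ReeSylowThree.uSub D) := by
  have Dl := ReeSetup.local_of_data D hK
  apply IsPGroup.of_card (n := (2 * m + 1) * 3)
  rw [Dl.card_U, pow_mul]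

theorem exists_sylow_uSub : ∃ S : Sylow 3 G, (S : Subgroup G) = ReeSylowThree.uSub D :=
  ⟨(isPGroup_uSub D hK).toSylow (ReeClass.index_U (ReeSetup.local_of_data D hK) (ReeClass.arith m)), rfl⟩

/-- **The trick**: `A ≤ uSub` abelian, normalised by the Borel subgroup, `y ∈ H` of order not dividing 18. -/
theorem trick {H A : Subgroup G} (hA : A ≤ ReeSylowThree.uSub D) (hab : ∀ a ∈ A, ∀ b ∈ A, a * b = b * a)
    (hB : ∀ g ∈ ReeSplit.bSub D, ∀ a ∈ A, g⁻¹ * a * g ∈ A) {y : G} (hyB : y ∈ ReeSplit.bSub D) (hyH : y ∈ H)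
    (hy : y ^ 18 ≠ 1) (hk : ∀ a ∈ A, a ∉ H → y ∈ cj a H) : A ≤ H := by
  apply le_of_comm (t := y) hab (fun a ha => hB y hyB a ha)
  · intro a ha hc
    by_contra ha1
    exact hy (ReeSplit.pow_eighteen_of_commute D hK (hA ha) ha1 hc.symm)
  · intro a ha
    by_cases haH : a ∈ H
    · exact H.mul_mem (H.mul_mem (H.mul_mem (H.inv_mem hyH) (H.inv_mem haH)) hyH) haH
    · have h1 := mem_cj.1 (hk a ha haH)
      have e : y⁻¹ * a⁻¹ * y * a = y⁻¹ * (a⁻¹ * y * a) := by group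
      rw [e]
      exact H.mul_mem (H.inv_mem hyH) h1

/-- second step: `A ≤ H` implies `A ≤ N` -/
theorem trick' {H N A : Subgroup G} (hN : NIn N H) (hA : A ≤ ReeSylowThree.uSub D)
    (hab : ∀ a ∈ A, ∀ b ∈ A, a * b = b * a)
    (hB : ∀ g ∈ ReeSplit.bSub D, ∀ a ∈ A, g⁻¹ * a * g ∈ A) {y : G} (hyB : y ∈ ReeSplit.bSub D) (hyN : y ∈ N)
    (hy : y ^ 18 ≠ 1) (hAH : A ≤ H) : A ≤ N := by
  apply le_of_comm (t := y) hab (fun a ha => hB y hyB a ha)
  · intro a ha hc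
    by_contra ha1
    exact hy (ReeSplit.pow_eighteen_of_commute D hK (hA ha) ha1 hc.symm)
  · intro a ha
    have h1 := hN.nrm a⁻¹ (inv_mem (hAH ha)) y hyN
    rw [inv_inv] at h1
    have e : y⁻¹ * a⁻¹ * y * a = y⁻¹ * (a⁻¹ * y * a) := by group
    rw [e]
    exact N.mul_mem (N.inv_mem hyN) h1

end data

end Cfsg.Agent.H247.EPR
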