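import Cfsg.Agent.H247.EPR.ReeMulti
import Cfsg.Agent.H137.EPX.ReeThirteen
import Cfsg.Agent.S1073

/-!
# `²G₂(q)` is not extremely primitive: assembly (helper247)
-/

set_option autoImplicit false
set_option linter.unusedSectionVars false

namespace Cfsg.Agent.H247.EPR

open MulAction Subgroup Cfsg.Agent.H284 Cfsg.Agent.H209.EPX
open Cfsg.Agent.H963.ReeCtx Cfsg.Agent.H963.ReeSep Cfsg.Agent.LieRecognition

open scoped Pointwise

/-- the affine case (helper137) -/
def ReeAff : Prop := ∀ {K : Type} [Field K] [Fintype K] {m : ℕ} (_ : 1 ≤ m) (_ : Fintype.card K = 3 ^ (2 * m + 1))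
  {H X : Subgroup ↥(Cfsg.Lie.twistedG2 K (3 ^ m))} (_ : EPA2 H X), False

/-- the socle `L₂(8)` (helper870) -/
def ReeEight : Prop := ∀ {K : Type} [Field K] [Fintype K] {m : ℕ} (_ : 1 ≤ m) (_ : Fintype.card K = 3 ^ (2 * m + 1))
  {H N : Subgroup ↥(Cfsg.Lie.twistedG2 K (3 ^ m))} (_ : EP H) (_ : NIn N H) {F : Type} [Field F] [Fintype F]
  (_ : Fintype.card F = 8) (_ : N ≃* Matrix.ProjectiveSpecialLinearGroup (Fin 2) F), False

theorem no_ree_model (hAff : ReeAff) (hEight : ReeEight) {K : Type} [Field K] [Fintype K] {m : ℕ} (hm : 1 ≤ m)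
    (hK : Fintype.card K = 3 ^ (2 * m + 1)) {H : Subgroup ↥(Cfsg.Lie.twistedG2 K (3 ^ m))} (h : EP H) : False := by
  classical
  have hfin : Finite ↥(Cfsg.Lie.twistedG2 K (3 ^ m)) := Cfsg.Agent.H125.TwoRee.finite_ree hm hK
  have C : Ctx ↥(Cfsg.Lie.twistedG2 K (3 ^ m)) m := Cfsg.Agent.H963.ReeFive.ctx_of_equiv hm hK (MulEquiv.refl _)
  rcases trichotomy h with ⟨X, hX⟩ | ⟨N, N', T, iT, k, e, h2⟩ | ⟨N, T, iT, k, e, h1⟩
  · exact hAff hm hK hX
  · exact no_two C h2
  have hk := k_eq_one C h1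
  subst hk
  have D := ReeFinal.data hK
  have hs : IsSimpleGroup T := h1.simple
  let e' : N ≃* T := e.trans (MulEquiv.funUnique (Fin 1) T)
  have hNs : IsSimpleGroup N := e'.isSimpleGroup
  have hna : ¬ IsMulCommutative N := by
    rintro ⟨⟨hc⟩⟩
    obtain ⟨a, b, hab⟩ := h1.nab
    apply hab
    have h3 := congrArg e' (hc (e'.symm a) (e'.symm b))
    simpa using h3
  have hNd : Nat.card N ∣ Nat.card ↥(Cfsg.Lie.twistedG2 K (3 ^ m)) := Subgroup.card_subgroup_dvd_card N
  obtain ⟨S⟩ : Nonempty (Sylow 2 N) := inferInstance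
  have hSab : ∀ a ∈ (S : Subgroup N), ∀ b ∈ (S : Subgroup N), a * b = b * a := by
    have hsq : ∀ x ∈ (S : Subgroup N), x * x = 1 := by
      intro x hx
      have h3 := two_sq C (S.isPGroup'.map N.subtype) (x : ↥(Cfsg.Lie.twistedG2 K (3 ^ m))) ⟨x, hx, rfl⟩
      exact Subtype.ext h3
    intro x hx y hy
    have h1 : ∀ z ∈ (S : Subgroup N), z⁻¹ = z := fun z hz => inv_eq_of_mul_eq_one_left (hsq z hz)
    have h2 := h1 _ (mul_mem hx hy)
    rw [mul_inv_rev, h1 _ hx, h1 _ hy] at h2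
    exact h2.symm
  rcases Cfsg.Agent.H478.WalterAll.iso_of_abelian hna S hSab with
    ⟨F, iF, iF', n, hn2, hF, ⟨g⟩⟩ | ⟨F, iF, iF', hF8, hF5, ⟨g⟩⟩ | ⟨K₀, iK, iK', l, hl, hK₀, ⟨g⟩⟩ | hJ
  · -- `L₂(2 ^ n)`
    have hc := Cfsg.Agent.SmallSimple.PSLTwoPart.card_psl_two_even (F := F)
      (by rw [hF]; exact (Nat.even_pow.2 ⟨even_two, by omega⟩))
    rw [← Nat.card_congr g.toEquiv] at hc
    have hn3 : n ≤ 3 := by
      by_contra hcon
      have h2 : 2 ^ n ∣ Nat.card N := by rw [hc, hF]; exact Nat.dvd_mul_right _ _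
      exact not16 C ((pow_dvd_pow 2 (by omega : 4 ≤ n)).trans (h2.trans hNd))
    have hn : n = 2 ∨ n = 3 := by omega
    rcases hn with rfl | rfl
    · apply not5 C
      refine Dvd.dvd.trans ?_ hNd
      rw [hc, hF]
      norm_num
    · exact hEight hm hK h h1.toNIn (by rw [hF]; norm_num) g
  · -- `L₂(F)`, `F` odd
    obtain ⟨s, hcs⟩ := CharP.exists F
    obtain ⟨b, hsp, hFb⟩ := FiniteField.card F s
    have hs2 : s ≠ 2 := by
      rintro rfl
      have : 2 ∣ Fintype.card F := by rw [hFb]; exact dvd_pow_self 2 b.2.ne'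
      omega
    by_cases hs3 : s = 3
    · subst hs3
      have h38 := pow_three_mod b
      refine ree_psl3 D hK h h1.toNIn (b := b) ⟨Nat.prime_three, F, iF, iF', hFb, ⟨g⟩⟩ ?_ ?_
      · omega
      · omega
    · have hs5 : 5 ≤ s := by
        have h4 : s ≠ 4 := by
          rintro rfl
          exact absurd hsp (by norm_num)
        have := hsp.two_le
        omega
      have h13 := C.psl F s hsp hs5 (N.subtype.comp g.symm.toMonoidHom)
        (N.subtype_injective.comp g.symm.injective)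
      have hc := Cfsg.Agent.SmallSimple.PSLTwoPart.card_psl_two_odd (F := F) (by rw [Nat.odd_iff]; omega)
      rw [← Nat.card_congr g.toEquiv] at hc
      have hF : Fintype.card F = 5 ∨ Fintype.card F = 11 ∨ Fintype.card F = 13 := by omega
      rcases hF with hF | hF | hF
      · apply not5 C
        refine Dvd.dvd.trans ?_ hNd
        rw [hF] at hc
        omega
      · apply not5 C
        refine Dvd.dvd.trans ?_ hNd
        rw [hF] at hc
        omega
      · exact Cfsg.Agent.H137.EPX.ree_l213 hm hK h h1.toNIn hF g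
  · exact ree_ree D hm hK h h1.toNIn (Cfsg.Agent.H963.ReeFive.data_map g (ReeFinal.data hK₀)) hl hK₀
  · obtain ⟨g⟩ := hJ
    apply not5 C
    refine Dvd.dvd.trans ?_ hNd
    rw [Nat.card_congr g.toEquiv, Cfsg.Agent.SporRec.J1.Words.card_J1]
    norm_num

/-- **`²G₂(q)` is not extremely primitive.** -/
theorem no_ree (hAff : ReeAff) (hEight : ReeEight) {G : Type*} [Group G] (hG : Cfsg.Lie.IsoRee G)
    {H : Subgroup G} (h : EP H) : False := by
  obtain ⟨K, _, _, m, hm, hK, ⟨e⟩⟩ := hG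
  exact no_ree_model hAff hEight hm hK (ep_map e h)

end Cfsg.Agent.H247.EPR
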