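import Cfsg.Agent.H247.EPR.ReeRee

/-!
# Extremely primitive groups: the small Ree groups, `k ≥ 2` and TWO (helper247)
-/

set_option autoImplicit false
set_option linter.unusedSectionVars false

namespace Cfsg.Agent.H247.EPR

open MulAction Subgroup Cfsg.Agent.H284 Cfsg.Agent.H209.EPX
open Cfsg.Agent.H963.ReeCtx Cfsg.Agent.H963.ReeSep

open scoped Pointwise

variable {G : Type} [Group G] [Finite G] {m : ℕ}

/-- a nonabelian `N ≅ T ^ k` has order divisible by `4 ^ k` -/
theorem four_pow_dvd (C : Ctx G m) {N : Subgroup G} {T : Type} [Group T] {k : ℕ} (e : N ≃* (Fin k → T))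
    [hs : IsSimpleGroup T] (hab : ∃ a b : T, a * b ≠ b * a) : 4 ^ k ∣ Nat.card N := by
  classical
  by_cases hk : k = 0
  · rw [hk, pow_zero]
    exact one_dvd _
  have i0 : Fin k := ⟨0, by omega⟩
  have hfin : Finite T := by
    have h1 : Finite (Fin k → T) := Finite.of_equiv N e.toEquiv
    exact Finite.of_injective (Pi.mulSingle (M := fun _ : Fin k => T) i0) (Pi.mulSingle_injective (M := fun _ : Fin k => T) i0)
  let ψ : T →* G := N.subtype.comp (e.symm.toMonoidHom.comp (MonoidHom.mulSingle (fun _ : Fin k => T) i0))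
  have hψ : Function.Injective ψ := by
    intro a b hab
    have h1 : e.symm (Pi.mulSingle i0 a) = e.symm (Pi.mulSingle i0 b) := N.subtype_injective hab
    exact Pi.mulSingle_injective (M := fun _ : Fin k => T) i0 (e.symm.injective h1)
  have hna : ¬ IsMulCommutative T := by
    rintro ⟨⟨hc⟩⟩
    obtain ⟨a, b, hab⟩ := hab
    exact hab (hc a b)
  have h4 := (cand_of_simple C Cfsg.Agent.H963.ReeFive.kinds hna ψ hψ).2
  rw [Nat.card_congr e.toEquiv, Nat.card_fun]
  simpa using pow_dvd_pow_of_dvd h4 k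

theorem no_two (C : Ctx G m) {H N N' : Subgroup G} {T : Type} [Group T] {k : ℕ} {e : N ≃* (Fin k → T)}
    (h : EPT2 H N N' e) : False := by
  classical
  have hs := h.simple
  have h1 : 4 ∣ Nat.card N := (dvd_pow_self 4 h.pos.ne').trans (four_pow_dvd C e h.nab)
  obtain ⟨T', i1, k', hs', hk', ⟨e'⟩⟩ := h.m2.exists_pi
  have h2 : 4 ∣ Nat.card N' := by
    refine (dvd_pow_self 4 hk'.ne').trans (four_pow_dvd C e' ?_)
    by_contra hcon
    push Not at hcon
    obtain ⟨a, ha, b, hb, hab⟩ := h.nab'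
    apply hab
    have h1 : (⟨a, ha⟩ : N') * ⟨b, hb⟩ = ⟨b, hb⟩ * ⟨a, ha⟩ := by
      apply e'.injective
      rw [map_mul, map_mul]
      funext i
      exact hcon _ _
    exact Subtype.ext_iff.1 h1
  have hinf : N ⊓ N' = ⊥ := by
    rcases h.m1.min (N ⊓ N') inf_le_left ⟨inf_le_left.trans h.m1.le, fun g hg x hx =>
      ⟨h.m1.nrm g hg x hx.1, h.m2.nrm g hg x hx.2⟩⟩ with h3 | h3
    · exact h3
    · exfalso
      obtain ⟨a, b, hab⟩ := h.nab
      apply hab
      have h4 : N ≤ N' := by rw [← h3]; exact inf_le_right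
      let i0 : Fin k := ⟨0, h.pos⟩
      have h5 := h.comm (e.symm (Pi.mulSingle i0 a)) (SetLike.coe_mem _) (e.symm (Pi.mulSingle i0 b))
        (h4 (SetLike.coe_mem _))
      have h6 : e.symm (Pi.mulSingle i0 a) * e.symm (Pi.mulSingle i0 b) =
          e.symm (Pi.mulSingle i0 b) * e.symm (Pi.mulSingle i0 a) := Subtype.ext h5
      rw [← map_mul, ← map_mul] at h6
      have h7 := congrFun (e.symm.injective h6) i0
      simpa using h7
  have h3 : Nat.card (N.subgroupOf H) * Nat.card (N'.subgroupOf H) ∣ Nat.card H := by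
    apply card_mul_dvd
    · constructor
      intro x hx g
      exact h.m2.nrm g g.2 x hx
    · intro x hx hx'
      have h4 : (x : G) ∈ N ⊓ N' := ⟨hx, hx'⟩
      rw [hinf, mem_bot] at h4
      exact Subtype.ext h4
  rw [Nat.card_congr (Subgroup.subgroupOfEquivOfLe h.m1.le).toEquiv,
    Nat.card_congr (Subgroup.subgroupOfEquivOfLe h.m2.le).toEquiv] at h3
  apply not16 C
  refine (dvd_trans ?_ h3).trans (Subgroup.card_subgroup_dvd_card H)
  exact mul_dvd_mul h1 h2

theorem k_eq_one (C : Ctx G m) {H N : Subgroup G} {T : Type} [Group T] {k : ℕ} {e : N ≃* (Fin k → T)}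
    (h : EPS H N e) : k = 1 := by
  have hs := h.simple
  by_contra hk
  have hk2 : 2 ≤ k := by have := h.pos; omega
  have h1 := four_pow_dvd C e h.nab
  apply not16 C
  exact (dvd_trans (pow_dvd_pow 4 hk2) h1).trans (Subgroup.card_subgroup_dvd_card N)

end Cfsg.Agent.H247.EPR
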