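import Cfsg.Agent.H247.EPR.ReeBase
import Cfsg.Agent.H333.S3530.Pt
import Cfsg.Agent.H417.TI.Psl

/-!
# Extremely primitive groups: the small Ree groups, socle `L₂(3^b)` (helper247)
-/

set_option autoImplicit false
set_option linter.unusedSectionVars false

namespace Cfsg.Agent.H247.EPR

open MulAction Subgroup Cfsg.Agent.H284 Cfsg.Agent.H209.EPX
open Cfsg.Agent.LieRecognition

open scoped Pointwise

/-- transport of a Sylow `p`-subgroup -/
noncomputable def msp {p : ℕ} [Fact p.Prime] {Y Z : Type*} [Group Y] [Group Z] [Finite Y] (e : Y ≃* Z) (P : Sylow p Y) :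
    Sylow p Z :=
  P.mapSurjective (f := (e : Y →* Z)) e.surjective

theorem coe_msp {p : ℕ} [Fact p.Prime] {Y Z : Type*} [Group Y] [Group Z] [Finite Y] (e : Y ≃* Z) (P : Sylow p Y) :
    (msp e P : Subgroup Z) = (P : Subgroup Y).map (e : Y →* Z) := Sylow.coe_mapSurjective _ _

theorem RO.of_psl {b : ℕ} {N : Type} [Group N] [Finite N] (hp : H389.RSq.IsPSL 3 b N) (h4 : 4 ≤ 3 ^ b) : RO 3 N where
  ti := fun P Q x hx hP hQ => Cfsg.Agent.H333.S3530.sylow_ti hp P Q x hx hP hQ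
  num := fun P => by
    rw [Cfsg.Agent.H333.S3530.number_sylow hp h4, Cfsg.Agent.H333.S3530.card_sylow_u hp h4]

theorem exists_sylow_cube {b : ℕ} {N : Type} [Group N] [Finite N] (hp : H389.RSq.IsPSL 3 b N) :
    ∃ P : Sylow 3 N, ∀ x ∈ (P : Subgroup N), x ^ 3 = 1 := by
  obtain ⟨-, F, i1, i2, hF, ⟨φ⟩⟩ := hp
  have hc : CharP F 3 := by
    obtain ⟨p, hp⟩ := CharP.exists F
    obtain ⟨n, hp', hn⟩ := FiniteField.card F p
    have h1 : p ∣ 3 ^ b := by
      rw [← hF, hn]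
      exact dvd_pow_self p n.2.ne'
    rwa [(Nat.prime_dvd_prime_iff_eq hp' Nat.prime_three).mp (hp'.dvd_of_dvd_pow h1)] at hp
  obtain ⟨P₀, hP₀⟩ := Cfsg.Agent.H417.TI.Psl.exists_sylP (F := F) (r := 3)
  refine ⟨msp φ.symm P₀, ?_⟩
  intro x hx
  rw [coe_msp, hP₀] at hx
  obtain ⟨_, ⟨_, ⟨u, rfl⟩, rfl⟩, rfl⟩ := hx
  rw [← map_pow, ← map_pow]
  have h1 : (Cfsg.Agent.H748.RoPSL.up u : Matrix.SpecialLinearGroup (Fin 2) F) ^ 3 = 1 := by
    have h3 : (3 : F) = 0 := by exact_mod_cast CharP.cast_eq_zero F 3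
    rw [pow_succ, pow_two, Cfsg.Agent.H748.RoPSL.up_add, Cfsg.Agent.H748.RoPSL.up_add]
    have h4 : u + u + u = 0 := by linear_combination u * h3
    rw [h4, Cfsg.Agent.H748.RoPSL.up_zero]
  rw [h1, map_one, map_one]

/-- a prime `≥ 5` dividing the order of the normaliser of a Sylow 3-subgroup, general form -/
theorem exists_y {Y : Type*} [Group Y] [Finite Y] {P : Subgroup Y} {c : ℕ} (hc : 1 < c) (hc2 : ¬ 2 ∣ c) (hc3 : ¬ 3 ∣ c)
    (hd : c ∣ Nat.card (Subgroup.normalizer (P : Set Y))) :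
    ∃ y ∈ Subgroup.normalizer (P : Set Y), y ^ 18 ≠ 1 := by
  obtain ⟨r, hr, hrc⟩ := Nat.exists_prime_and_dvd hc.ne'
  have := Fact.mk hr
  obtain ⟨y, hy⟩ := exists_prime_orderOf_dvd_card' r (hrc.trans hd)
  refine ⟨y, y.2, ?_⟩
  intro h1
  have h2 : orderOf (y : Y) ∣ 18 := orderOf_dvd_of_pow_eq_one h1
  rw [Subgroup.orderOf_coe, hy, show 18 = 2 * 3 ^ 2 by norm_num, hr.dvd_mul] at h2
  rcases h2 with h2 | h2
  · have := (Nat.prime_dvd_prime_iff_eq hr Nat.prime_two).1 h2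
    exact hc2 (this ▸ hrc)
  · have := (Nat.prime_dvd_prime_iff_eq hr Nat.prime_three).1 (hr.dvd_of_dvd_pow h2)
    exact hc3 (this ▸ hrc)

theorem ree_psl3 {K : Type} [Field K] [Fintype K] {G : Type} [Group G] [Finite G] {m : ℕ} {U : K → K → K → G}
    {h : Kˣ → G} {n : G} (D : ReeAbs.Data m U h n) (hK : Fintype.card K = 3 ^ (2 * m + 1))
    {H N : Subgroup G} (hE : EP H) (hN : NIn N H) {b : ℕ} (hp : H389.RSq.IsPSL 3 b N) (hb8 : 3 ^ b % 8 = 3)
    (hb5 : 5 ≤ 3 ^ b) : False := by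
  classical
  have hs : IsSimpleGroup N := Cfsg.Agent.H333.S3530.psl_simple hp (by omega)
  have hb1 : 1 ≤ b := by
    by_contra hcon
    have : b = 0 := by omega
    rw [this] at hb5
    norm_num at hb5
  have hRO : RO 3 N := RO.of_psl hp (by omega)
  obtain ⟨P, hPc⟩ := exists_sylow_cube hp
  have hPcard : Nat.card (P : Subgroup N) = 3 ^ b := Cfsg.Agent.H333.S3530.card_sylow_u hp (by omega) P
  -- the element `y`
  have h3b : 3 ∣ 3 ^ b := dvd_pow_self 3 (by omega)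
  obtain ⟨y, hyN, hy18⟩ : ∃ y ∈ Subgroup.normalizer ((P : Subgroup N) : Set N), y ^ 18 ≠ 1 := by
    apply exists_y (c := (3 ^ b - 1) / 2)
    · omega
    · omega
    · omega
    · have h1 := hp.card_odd (by norm_num)
      have h2 := (Subgroup.normalizer ((P : Subgroup N) : Set N)).card_mul_index
      have h3 : Nat.card (Sylow 3 N) = (Subgroup.normalizer ((P : Subgroup N) : Set N)).index := P.card_eq_index_normalizer
      rw [← h3, Cfsg.Agent.H333.S3530.number_sylow hp (by omega)] at h2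
      rw [← h2] at h1
      refine ⟨3 ^ b, ?_⟩
      have h4 : 3 ^ b - 1 = 2 * ((3 ^ b - 1) / 2) := by omega
      generalize hc : (3 ^ b - 1) / 2 = c at *
      rw [h4] at h1
      have h5 : 0 < 2 * (3 ^ b + 1) := by positivity
      refine Nat.eq_of_mul_eq_mul_left h5 ?_
      calc 2 * (3 ^ b + 1) * Nat.card (Subgroup.normalizer ((P : Subgroup N) : Set N))
          = 2 * (Nat.card (Subgroup.normalizer ((P : Subgroup N) : Set N)) * (3 ^ b + 1)) := by ring
        _ = 3 ^ b * (2 * c) * (3 ^ b + 1) := h1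
        _ = 2 * (3 ^ b + 1) * (c * 3 ^ b) := by ring
  set E : Subgroup G := (P : Subgroup N).map N.subtype with hEdef
  have hEp : IsPGroup 3 E := P.isPGroup'.map _
  obtain ⟨U', h', n', D', hEU⟩ := exists_data D hK hEp
  have hEA : E ≤ aU D' := by
    rintro _ ⟨x, hx, rfl⟩
    rw [mem_aU_of_cube D' hK (hEU ⟨x, hx, rfl⟩), ← map_pow, hPc x hx, map_one]
  -- `y` is in the Borel subgroup
  obtain ⟨⟨x, hx⟩, hx1⟩ := Subgroup.ne_bot_iff_exists_ne_one.1 (hRO.ne_bot P)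
  have hx1' : (x : G) ≠ 1 := fun e => hx1 (Subtype.ext (Subtype.ext e))
  have hyB : (y : G) ∈ ReeSplit.bSub D' := by
    apply ReeSplit.mem_bSub_of_inv_conj_mem D' (hEU ⟨x, hx, rfl⟩) hx1'
    have h1 := (Subgroup.mem_normalizer_iff.1 (inv_mem hyN) x).1 hx
    rw [inv_inv] at h1
    exact hEU ⟨_, h1, rfl⟩
  have hy18' : (y : G) ^ 18 ≠ 1 := fun e => hy18 (Subtype.ext e)
  have hAH : aU D' ≤ H := by
    apply trick D' hK (aU_le D') (aU_comm D') (fun g hg => inv_conj_aU D' hK hg) hyB (hN.le y.2) hy18'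
    intro a ha haH
    refine RO.mem hE hN hRO P haH ?_ hyN
    intro z hz
    exact aU_comm D' a ha _ (hEA ⟨z, hz, rfl⟩)
  have hAN : aU D' ≤ N :=
    trick' D' hK hN (aU_le D') (aU_comm D') (fun g hg => inv_conj_aU D' hK hg) hyB y.2 hy18' hAH
  have hAE : (P : Subgroup N) = (aU D').subgroupOf N := by
    have h1 : IsPGroup 3 ((aU D').subgroupOf N) := by
      have h2 : IsPGroup 3 (aU D') := (isPGroup_uSub D' hK).to_le (aU_le D')
      exact h2.comap_subtype
    exact (P.is_maximal' h1 (fun z hz => by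
      rw [Subgroup.mem_subgroupOf]
      exact hEA ⟨z, hz, rfl⟩)).symm
  have hcard : 3 ^ b = (3 ^ (2 * m + 1)) ^ 2 := by
    rw [← hPcard, hAE, Nat.card_congr (Subgroup.subgroupOfEquivOfLe hAN).toEquiv, card_aU, hK]
  have hq8 := (ReeClass.arith m).q8
  rw [hcard, Nat.pow_mod, hq8] at hb8
  norm_num at hb8

end Cfsg.Agent.H247.EPR
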