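import Cfsg.Agent.H247.EPR.ReePsl

/-!
# Extremely primitive groups: the small Ree groups, socle a small Ree group (helper247)
-/

set_option autoImplicit false
set_option linter.unusedSectionVars false

namespace Cfsg.Agent.H247.EPR

open MulAction Subgroup Cfsg.Agent.H284 Cfsg.Agent.H209.EPX
open Cfsg.Agent.LieRecognition

open scoped Pointwise

theorem normalizer_uSub {K : Type} [Field K] [Fintype K] {G : Type} [Group G] [Finite G] {m : ℕ}
    {U : K → K → K → G} {h : Kˣ → G} {n : G} (D : ReeAbs.Data m U h n) (hK : Fintype.card K = 3 ^ (2 * m + 1)) :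
    Subgroup.normalizer (ReeSylowThree.uSub D : Set G) = ReeSplit.bSub D := by
  apply le_antisymm
  · intro g hg
    have hc := (ReeSetup.local_of_data D hK).card_U
    have hne : ReeSylowThree.uSub D ≠ ⊥ := by
      intro e
      rw [e, Subgroup.card_bot] at hc
      have : 1 < (3 ^ (2 * m + 1)) ^ 3 := Nat.one_lt_pow (by norm_num) (Nat.one_lt_pow (by omega) (by norm_num))
      omega
    obtain ⟨⟨x, hx⟩, hx1⟩ := Subgroup.ne_bot_iff_exists_ne_one.1 hne
    have hx1' : x ≠ 1 := fun e => hx1 (Subtype.ext e)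
    have h1 := (Subgroup.mem_normalizer_iff.1 (inv_mem hg) x).1 hx
    rw [inv_inv] at h1
    exact ReeSplit.mem_bSub_of_inv_conj_mem D hx hx1' h1
  · intro g hg
    rw [Subgroup.mem_normalizer_iff]
    intro x
    constructor
    · exact ReeSplit.conj_mem_uSub D hg
    · intro hx
      have h1 := ReeSplit.inv_conj_mem_uSub D hg hx
      have e : g⁻¹ * (g * x * g⁻¹) * g = x := by group
      rwa [e] at h1

theorem RO.of_data {K : Type} [Field K] [Fintype K] {G : Type} [Group G] [Finite G] {m : ℕ}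
    {U : K → K → K → G} {h : Kˣ → G} {n : G} (D : ReeAbs.Data m U h n) (hK : Fintype.card K = 3 ^ (2 * m + 1)) :
    RO 3 G := by
  classical
  obtain ⟨S, hS⟩ := exists_sylow_uSub D hK
  have hN := normalizer_uSub D hK
  have Dl := ReeSetup.local_of_data D hK
  constructor
  · intro P Q x hx1 hP hQ
    obtain ⟨g, rfl⟩ := MulAction.exists_smul_eq G S P
    obtain ⟨k, rfl⟩ := MulAction.exists_smul_eq G S Q
    rw [Sylow.coe_subgroup_smul, Subgroup.mem_pointwise_smul_iff_inv_smul_mem, MulAut.smul_def,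
      MulAut.conj_inv_apply, hS] at hP hQ
    have h1 : g⁻¹ * x * g ≠ 1 := ReeClass.conj_ne hx1 g
    have h2 : g⁻¹ * k ∈ ReeSplit.bSub D := by
      apply ReeSplit.mem_bSub_of_inv_conj_mem D hP h1
      have e : (g⁻¹ * k)⁻¹ * (g⁻¹ * x * g) * (g⁻¹ * k) = k⁻¹ * x * k := by group
      rw [e]
      exact hQ
    rw [← hN, ← hS] at h2
    have h3 : (g⁻¹ * k) • S = S := Sylow.smul_eq_iff_mem_normalizer.2 h2
    rw [mul_smul, inv_smul_eq_iff] at h3
    exact h3.symm
  · intro P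
    have h1 : Nat.card (Sylow 3 G) = (Subgroup.normalizer ((S : Subgroup G) : Set G)).index := S.card_eq_index_normalizer
    have h2 : Nat.card (P : Subgroup G) = Nat.card (S : Subgroup G) := Nat.card_congr (Sylow.equiv P S).toEquiv
    have h3 := (ReeSplit.bSub D).card_mul_index
    rw [h1, h2, hS, hN, Dl.card_U]
    rw [Dl.card_B, Dl.card_G] at h3
    have h8 := (ReeClass.arith m).q8
    have h4 : 0 < (3 ^ (2 * m + 1)) ^ 3 * (3 ^ (2 * m + 1) - 1) := by
      apply Nat.mul_pos (by positivity)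
      omega
    exact Nat.eq_of_mul_eq_mul_left h4 h3

theorem ree_ree {K : Type} [Field K] [Fintype K] {G : Type} [Group G] [Finite G] {m : ℕ} {U : K → K → K → G}
    {h : Kˣ → G} {n : G} (D : ReeAbs.Data m U h n) (hm : 1 ≤ m) (hK : Fintype.card K = 3 ^ (2 * m + 1))
    {H N : Subgroup G} (hE : EP H) (hN : NIn N H) [hs : IsSimpleGroup N]
    {K₀ : Type} [Field K₀] [Fintype K₀] {l : ℕ} {U₀ : K₀ → K₀ → K₀ → N} {h₀ : K₀ˣ → N} {n₀ : N}
    (D₀ : ReeAbs.Data l U₀ h₀ n₀) (hl : 1 ≤ l) (hK₀ : Fintype.card K₀ = 3 ^ (2 * l + 1)) : False := by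
  classical
  have Dl := ReeSetup.local_of_data D hK
  have Dl₀ := ReeSetup.local_of_data D₀ hK₀
  have hRO : RO 3 N := RO.of_data D₀ hK₀
  obtain ⟨S, hS⟩ := exists_sylow_uSub D₀ hK₀
  have hq27 : 27 ≤ 3 ^ (2 * l + 1) := by
    calc 27 = 3 ^ 3 := by norm_num
      _ ≤ 3 ^ (2 * l + 1) := Nat.pow_le_pow_right (by norm_num) (by omega)
  have h8 := (ReeClass.arith l).q8
  have h3d : 3 ∣ 3 ^ (2 * l + 1) := dvd_pow_self 3 (by omega)
  obtain ⟨y, hyN, hy18⟩ : ∃ y ∈ Subgroup.normalizer ((S : Subgroup N) : Set N), y ^ 18 ≠ 1 := by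
    apply exists_y (c := (3 ^ (2 * l + 1) - 1) / 2)
    · omega
    · omega
    · omega
    · rw [hS, normalizer_uSub D₀ hK₀, Dl₀.card_B]
      refine Dvd.dvd.mul_left ?_ _
      exact Nat.div_dvd_of_dvd (by omega)
  set E : Subgroup G := (S : Subgroup N).map N.subtype with hEdef
  have hEp : IsPGroup 3 E := S.isPGroup'.map _
  obtain ⟨U', h', n', D', hEU⟩ := exists_data D hK hEp
  obtain ⟨⟨x, hx⟩, hx1⟩ := Subgroup.ne_bot_iff_exists_ne_one.1 (hRO.ne_bot S)
  have hx1' : (x : G) ≠ 1 := fun e => hx1 (Subtype.ext (Subtype.ext e))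
  have hyB : (y : G) ∈ ReeSplit.bSub D' := by
    apply ReeSplit.mem_bSub_of_inv_conj_mem D' (hEU ⟨x, hx, rfl⟩) hx1'
    have h1 := (Subgroup.mem_normalizer_iff.1 (inv_mem hyN) x).1 hx
    rw [inv_inv] at h1
    exact hEU ⟨_, h1, rfl⟩
  have hy18' : (y : G) ^ 18 ≠ 1 := fun e => hy18 (Subtype.ext e)
  have hZab : ∀ a ∈ zU D', ∀ b ∈ zU D', a * b = b * a := fun a ha b hb => zU_comm D' a ha b (zU_le D' hb)
  have hZH : zU D' ≤ H := by
    apply trick D' hK (zU_le D') hZab (fun g hg => inv_conj_zU D' hg) hyB (hN.le y.2) hy18'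
    intro a ha haH
    refine RO.mem hE hN hRO S haH ?_ hyN
    intro z hz
    exact zU_comm D' a ha _ (hEU ⟨z, hz, rfl⟩)
  have hZN : zU D' ≤ N :=
    trick' D' hK hN (zU_le D') hZab (fun g hg => inv_conj_zU D' hg) hyB y.2 hy18' hZH
  have hUS : (S : Subgroup N) = (ReeSylowThree.uSub D').subgroupOf N := by
    have h1 : IsPGroup 3 ((ReeSylowThree.uSub D').subgroupOf N) := (isPGroup_uSub D' hK).comap_subtype
    exact (S.is_maximal' h1 (fun z hz => by
      rw [Subgroup.mem_subgroupOf]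
      exact hEU ⟨z, hz, rfl⟩)).symm
  have hle : Nat.card K ≤ Nat.card (aU D₀) := by
    have hmem : ∀ v : K, U' 0 0 v ∈ N := fun v => hZN (U_mem_zU D' v)
    have hmem' : ∀ v : K, (⟨U' 0 0 v, hmem v⟩ : N) ∈ aU D₀ := by
      intro v
      have h1 : (⟨U' 0 0 v, hmem v⟩ : N) ∈ ReeSylowThree.uSub D₀ := by
        rw [← hS, hUS, Subgroup.mem_subgroupOf]
        exact zU_le D' (U_mem_zU D' v)
      rw [mem_aU_of_cube D₀ hK₀ h1]
      exact Subtype.ext (ReeSplit.U_zero_zero_cube D' hK v)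
    refine Nat.card_le_card_of_injective (fun v : K => (⟨_, hmem' v⟩ : aU D₀)) ?_
    intro v w e
    have e1 : U' 0 0 v = U' 0 0 w := Subtype.ext_iff.1 (Subtype.ext_iff.1 e)
    exact (ReeSylowThree.U_injective D' e1).2.2
  rw [card_aU, Nat.card_eq_fintype_card, hK, hK₀, ← pow_mul] at hle
  have hle' : 2 * m + 1 ≤ (2 * l + 1) * 2 := (Nat.pow_le_pow_iff_right (by norm_num)).1 hle
  -- divisibility
  obtain ⟨r, hr⟩ := Cfsg.Agent.H125.ReeSub.exists_zs l
  have hdvd : 6 * (2 * l + 1) ∣ 6 * (2 * m + 1) := by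
    rw [← hr.ord]
    have h1 : r ∣ Nat.card N := by
      rw [Dl₀.card_G, (ReeClass.arith l).cube]
      exact (hr.dvd_Q.mul_left _).mul_left _
    have h2 : r ∣ Nat.card G := h1.trans (Subgroup.card_subgroup_dvd_card N)
    rw [Dl.card_G, hr.prime.dvd_mul, hr.prime.dvd_mul] at h2
    have h6 : 3 ^ (6 * (2 * m + 1)) - 1 = ((3 ^ (2 * m + 1)) ^ 3 + 1) * ((3 ^ (2 * m + 1)) ^ 3 - 1) := by
      have h7 := Nat.sq_sub_sq ((3 ^ (2 * m + 1)) ^ 3) 1
      rw [one_pow] at h7
      rw [← h7, ← pow_mul, ← pow_mul]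
      congr 2
      ring
    rcases h2 with (h2 | h2) | h2
    · exfalso
      rw [← pow_mul] at h2
      exact hr.not_q _ h2
    · have h7 : 3 ^ (2 * m + 1) - 1 ∣ 3 ^ (6 * (2 * m + 1)) - 1 := by
        have := Nat.sub_dvd_pow_sub_pow (3 ^ (2 * m + 1)) 1 6
        rwa [one_pow, ← pow_mul, mul_comm (2 * m + 1) 6] at this
      exact h2.trans h7
    · rw [h6]
      exact h2.mul_right _
  have hdvd' : 2 * l + 1 ∣ 2 * m + 1 := Nat.dvd_of_mul_dvd_mul_left (by norm_num) hdvd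
  obtain ⟨c, hc⟩ := hdvd'
  have hc1 : c = 1 := by
    have hc3 : c < 3 := by
      by_contra hcon
      have : (2 * l + 1) * 3 ≤ (2 * l + 1) * c := Nat.mul_le_mul_left _ (by omega)
      omega
    interval_cases c
    · omega
    · rfl
    · omega
  rw [hc1, mul_one] at hc
  have hcard : Nat.card N = Nat.card G := by
    rw [Dl.card_G, Dl₀.card_G, hc]
  have hNt : N = ⊤ := Subgroup.eq_top_of_card_eq _ hcard
  apply hE.max.1
  rw [eq_top_iff, ← hNt]
  exact hN.le

end Cfsg.Agent.H247.EPR
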