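import Cfsg.Agent.H247.EPR.SzFacts
import Cfsg.Agent.S2251
import Cfsg.Agent.OddCyclic.ClaimC.SzIso

/-!
# `Sz(q)` is not extremely primitive (helper247)

`no_sz` : `EP H → False` for every subgroup `H` of `G ≅ Sz(q)`.
-/

set_option autoImplicit false
set_option linter.unusedSectionVars false

namespace Cfsg.Agent.H247.EPR

open MulAction Subgroup Cfsg.Agent.H284

open scoped Pointwise

variable {G : Type*} [Group G] [Finite G]

/-- the subfield subgroups -/
theorem no_sub {F : Type*} [Field F] [Fintype F] {m : ℕ} (hm : 1 ≤ m) (hF : Fintype.card F = 2 ^ (2 * m + 1))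
    (eG : G ≃* Cfsg.Sz F m) {K : Type*} [Field K] [Fintype K] {k : ℕ} (hk : 1 ≤ k)
    (hK : Fintype.card K = 2 ^ (2 * k + 1)) (hkm : k < m) {H : Subgroup G} (eH : H ≃* Cfsg.Sz K k) (h : EP H) : False := by
  classical
  obtain ⟨S⟩ : Nonempty (Sylow 2 H) := inferInstance
  set S' : Subgroup G := (S : Subgroup H).map H.subtype with hS'
  have hS'p : IsPGroup 2 S' := S.isPGroup'.map _
  obtain ⟨Q, hQ⟩ := hS'p.exists_le_sylow
  obtain ⟨⟨t, htH⟩, htS, ht1, hto⟩ := sz_odd hk hK eH S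
  have ht1' : t ≠ 1 := fun e => ht1 (Subtype.ext e)
  have hto' : Odd (orderOf t) := by rwa [Subgroup.orderOf_mk] at hto
  -- `S' ≠ 1`
  have hSne : ∃ s ∈ S', s ≠ 1 := by
    have h1 := (sz_center hk hK eH S).1
    by_contra hcon
    push Not at hcon
    have h2 : (S : Subgroup H) = ⊥ := by
      rw [Subgroup.eq_bot_iff_forall]
      intro x hx
      exact Subtype.ext (hcon x ⟨x, hx, rfl⟩)
    have h3 : Nat.card (S : Subgroup H) = 1 := by rw [h2]; exact Subgroup.card_bot
    have h4 : (2 ^ (2 * k + 1)) ^ 2 = 1 := h1.symm.trans h3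
    have h5 : 1 < (2 ^ (2 * k + 1)) ^ 2 := Nat.one_lt_pow (by norm_num) (Nat.one_lt_two_pow (by omega))
    omega
  -- `t` normalises `S'` and `Q`
  have htS' : ∀ s ∈ S', t⁻¹ * s * t ∈ S' := by
    rintro _ ⟨y, hy, rfl⟩
    have h1 := (Subgroup.mem_normalizer_iff.1 (inv_mem htS) y).1 hy
    refine ⟨_, h1, ?_⟩
    simp
  have htQ : t ∈ Subgroup.normalizer ((Q : Subgroup G) : Set G) := by
    refine Sylow.smul_eq_iff_mem_normalizer.1 ?_
    obtain ⟨s, hs, hs1⟩ := hSne
    refine sz_ti hm hF eG (g := s) ?_ (hQ hs) hs1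
    have h1 : s ∈ MulAut.conj t • (Q : Subgroup G) := by
      rw [Subgroup.mem_pointwise_smul_iff_inv_smul_mem]
      have h2 : (MulAut.conj t)⁻¹ • s = t⁻¹ * s * t := by rw [MulAut.smul_def, MulAut.conj_inv_apply]
      rw [h2]
      exact hQ (htS' s hs)
    exact h1
  -- the centre of `Q`
  set A : Subgroup G := (Subgroup.center (Q : Subgroup G)).map (Q : Subgroup G).subtype with hA
  have hAQ : A ≤ Q := by
    rintro _ ⟨y, _, rfl⟩
    exact y.2
  have hAc : ∀ a ∈ A, ∀ b ∈ Q, a * b = b * a := by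
    rintro _ ⟨a, ha, rfl⟩ b hb
    exact (Subtype.ext_iff.1 (mem_center_iff.1 ha ⟨b, hb⟩)).symm
  have hAc' : ∀ a ∈ Q, (∀ b ∈ Q, a * b = b * a) → a ∈ A := by
    intro a ha hc
    exact ⟨⟨a, ha⟩, mem_center_iff.2 fun b => Subtype.ext (hc b b.2).symm, rfl⟩
  have hAcard : Nat.card A = 2 ^ (2 * m + 1) := by
    rw [← (sz_center hm hF eG Q).2]
    exact (Nat.card_congr ((Subgroup.center (Q : Subgroup G)).equivMapOfInjective _
      (Q : Subgroup G).subtype_injective).toEquiv).symm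
  have htQ' : ∀ b ∈ Q, t⁻¹ * b * t ∈ Q := by
    intro b hb
    have := (Subgroup.mem_normalizer_iff.1 (inv_mem htQ) b).1 hb
    rwa [inv_inv] at this
  have htQ'' : ∀ b ∈ Q, t * b * t⁻¹ ∈ Q := by
    intro b hb
    exact (Subgroup.mem_normalizer_iff.1 htQ b).1 hb
  have hAH : A ≤ H := by
    apply le_of_comm (t := t)
    · intro a ha b hb
      exact hAc a ha b (hAQ hb)
    · intro a ha
      apply hAc' _ (htQ' a (hAQ ha))
      intro b hb
      have h1 := hAc a ha _ (htQ'' b hb)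
      calc t⁻¹ * a * t * b = t⁻¹ * (a * (t * b * t⁻¹)) * t := by group
        _ = t⁻¹ * (t * b * t⁻¹ * a) * t := by rw [h1]
        _ = b * (t⁻¹ * a * t) := by group
    · intro a ha hat
      by_contra ha1
      have h1 : IsPGroup 2 Q := Q.isPGroup'
      obtain ⟨j, hj⟩ := (IsPGroup.iff_orderOf.1 h1) ⟨a, hAQ ha⟩
      rw [Subgroup.orderOf_mk] at hj
      exact sz_comm hm hF eG hj ha1 hto' ht1' hat
    · intro a ha
      by_cases haH : a ∈ H
      · exact H.mul_mem (H.mul_mem (H.mul_mem (H.inv_mem htH) (H.inv_mem haH)) htH) haH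
      · have h1 : (S : Subgroup H) ≤ (H ⊓ cj a H).subgroupOf H := by
          intro s hs
          rw [Subgroup.mem_subgroupOf]
          refine ⟨s.2, mem_cj.2 ?_⟩
          have h2 : (s : G) ∈ Q := hQ ⟨s, hs, rfl⟩
          have h3 := hAc a ha s h2
          rw [mul_assoc, ← h3, inv_mul_cancel_left]
          exact s.2
        have h2 := sz_unique hk hK eH S (isCoatom_two h haH) h1
        rw [← h2, Subgroup.mem_subgroupOf] at htS
        have h3 : a⁻¹ * t * a ∈ H := mem_cj.1 (mem_inf.1 htS).2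
        have e : t⁻¹ * a⁻¹ * t * a = t⁻¹ * (a⁻¹ * t * a) := by group
        rw [e]
        exact H.mul_mem (H.inv_mem htH) h3
  -- `A ≤ S'`
  have hQS : ∀ g ∈ Q, g ∈ H → g ∈ S' := by
    have h1 : (S : Subgroup H) = (Q : Subgroup G).subgroupOf H := by
      have h3 : IsPGroup 2 ((Q : Subgroup G).subgroupOf H) := by
        have h4 : IsPGroup 2 (Q : Subgroup G) := Q.isPGroup'
        have h5 := h4.comap_subtype (K := H)
        exact h5
      exact (S.is_maximal' h3 (fun s hs => by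
        rw [Subgroup.mem_subgroupOf]
        exact hQ ⟨s, hs, rfl⟩)).symm
    intro g hg hgH
    refine ⟨⟨g, hgH⟩, ?_, rfl⟩
    rw [h1]
    exact hg
  have hAS : A ≤ S' := fun a ha => hQS a (hAQ ha) (hAH ha)
  have hle : Nat.card A ≤ Nat.card (Subgroup.center (S : Subgroup H)) := by
    have h1 : ∀ a ∈ A, ∃ s : (S : Subgroup H), s ∈ Subgroup.center (S : Subgroup H) ∧ ((s : H) : G) = a := by
      intro a ha
      obtain ⟨y, hy, e⟩ := hAS ha
      refine ⟨⟨y, hy⟩, mem_center_iff.2 ?_, e⟩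
      intro b
      apply Subtype.ext
      apply Subtype.ext
      have h2 := hAc a ha (b : H) (hQ ⟨b, b.2, rfl⟩)
      have e' : ((y : H) : G) = a := e
      show ((b : H) : G) * (y : G) = (y : G) * (b : H)
      rw [e', h2]
    choose f hf hf' using h1
    refine Nat.card_le_card_of_injective (fun a : A => (⟨f a a.2, hf a a.2⟩ : Subgroup.center (S : Subgroup H))) ?_
    intro a b e
    have e1 : f a a.2 = f b b.2 := Subtype.ext_iff.1 e
    apply Subtype.ext
    rw [← hf' a a.2, ← hf' b b.2, e1]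
  have h1 := (sz_center hk hK eH S).2
  rw [hAcard] at hle
  have h2 : 2 ^ (2 * m + 1) ≤ 2 ^ (2 * k + 1) := hle.trans_eq h1
  have h3 := (Nat.pow_le_pow_iff_right (by norm_num : 1 < 2)).1 h2
  omega

theorem no_sz_model {F : Type*} [Field F] [Fintype F] {m : ℕ} (hm : 1 ≤ m) (hF : Fintype.card F = 2 ^ (2 * m + 1))
    {H : Subgroup (Cfsg.Sz F m)} (h : EP H) : False := by
  classical
  have hs : IsSimpleGroup (Cfsg.Sz F m) := Cfsg.Agent.S0325.result hm hF
  have hq8 : 8 ≤ 2 ^ (2 * m + 1) := by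
    calc 8 = 2 ^ 3 := by norm_num
      _ ≤ _ := Nat.pow_le_pow_right (by norm_num) (by omega)
  have hcard := Cfsg.Agent.S0324.result hm hF
  have hnab : ¬ ∀ a b : Cfsg.Sz F m, a * b = b * a := by
    intro hab
    obtain ⟨P⟩ : Nonempty (Sylow 2 (Cfsg.Sz F m)) := inferInstance
    obtain ⟨h1, h2⟩ := sz_center hm hF (MulEquiv.refl _) P
    have h3 : Subgroup.center (P : Subgroup (Cfsg.Sz F m)) = ⊤ := by
      rw [Subgroup.eq_top_iff']
      intro a
      exact mem_center_iff.2 fun b => Subtype.ext (hab b a)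
    have h4 : Nat.card (Subgroup.center (P : Subgroup (Cfsg.Sz F m))) = Nat.card P := by
      rw [h3]; exact Subgroup.card_top
    rw [h1] at h4
    have h5 : 2 ^ (2 * m + 1) = (2 ^ (2 * m + 1)) ^ 2 := h2.symm.trans h4
    nlinarith
  rcases Cfsg.Agent.H101.SzSub.main hm hF H h.max.1 with ⟨P, hP⟩ | ⟨U, hU, hUc, hHU⟩ | ⟨K, iK, iK', k, hk, hkm, hK, -, ⟨e⟩⟩
  · -- Borel subgroups
    have h1 := (Cfsg.Agent.S2247.result hm hF P).1
    have h2 : H = Subgroup.normalizer ((P : Subgroup (Cfsg.Sz F m)) : Set (Cfsg.Sz F m)) := by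
      rcases h.max.le_iff.1 hP with h3 | h3
      · exact absurd h3 h1.1
      · exact h3.symm
    have h3 : Group.IsNilpotent (P : Subgroup (Cfsg.Sz F m)) := P.isPGroup'.isNilpotent
    have h4 := h.nilp_ab (X := (P : Subgroup (Cfsg.Sz F m))) (by rw [h2]; exact Subgroup.le_normalizer) (by
      intro g hg k hk
      rw [h2] at hg
      exact (Subgroup.mem_normalizer_iff.1 hg k).1 hk) h3
    obtain ⟨h5, h6⟩ := sz_center hm hF (MulEquiv.refl _) P
    have h7 : Subgroup.center (P : Subgroup (Cfsg.Sz F m)) = ⊤ := by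
      rw [Subgroup.eq_top_iff']
      intro a
      exact mem_center_iff.2 fun b => Subtype.ext (h4 b b.2 a a.2)
    have h8 : Nat.card (Subgroup.center (P : Subgroup (Cfsg.Sz F m))) = Nat.card P := by
      rw [h7]; exact Subgroup.card_top
    rw [h5] at h8
    have h9 : 2 ^ (2 * m + 1) = (2 ^ (2 * m + 1)) ^ 2 := h6.symm.trans h8
    nlinarith
  · -- tori
    have hw : 2 * 2 ^ (m + 1) ≤ 2 ^ (2 * m + 1) := by
      calc 2 * 2 ^ (m + 1) = 2 ^ (m + 2) := by ring
        _ ≤ _ := Nat.pow_le_pow_right (by norm_num) (by omega)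
    have hUle : 2 * Nat.card U ≤ 3 * 2 ^ (2 * m + 1) + 2 := by
      simp only [Set.mem_insert_iff, Set.mem_singleton_iff] at hUc
      rcases hUc with e | e | e <;> rw [e] <;> omega
    have hU5 : 5 ≤ Nat.card U := by
      simp only [Set.mem_insert_iff, Set.mem_singleton_iff] at hUc
      rcases hUc with e | e | e <;> rw [e] <;> omega
    have hUne : U ≠ ⊥ := by
      intro e
      rw [e, Subgroup.card_bot] at hU5
      omega
    have hNU : Subgroup.normalizer (U : Set (Cfsg.Sz F m)) ≠ ⊤ := by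
      intro e
      have hn : U.Normal := Subgroup.normalizer_eq_top_iff.1 e
      rcases hs.eq_bot_or_eq_top_of_normal _ hn with h1 | h1
      · exact hUne h1
      · apply hnab
        intro a b
        obtain ⟨g, hg⟩ := hU.exists_generator
        obtain ⟨i, hi⟩ := hg ⟨a, by rw [h1]; exact mem_top _⟩
        obtain ⟨j, hj⟩ := hg ⟨b, by rw [h1]; exact mem_top _⟩
        have hi' : (g : Cfsg.Sz F m) ^ i = a := Subtype.ext_iff.1 hi
        have hj' : (g : Cfsg.Sz F m) ^ j = b := Subtype.ext_iff.1 hj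
        rw [← hi', ← hj']
        exact ((Commute.refl (g : Cfsg.Sz F m)).zpow_zpow i j).eq
    have h2 : H = Subgroup.normalizer (U : Set (Cfsg.Sz F m)) := by
      rcases h.max.le_iff.1 hHU with h3 | h3
      · exact absurd h3 hNU
      · exact h3.symm
    have hUH : U ≤ H := by rw [h2]; exact Subgroup.le_normalizer
    have hUn : ∀ g ∈ H, ∀ k ∈ U, g * k * g⁻¹ ∈ U := by
      intro g hg k hk
      rw [h2] at hg
      exact (Subgroup.mem_normalizer_iff.1 hg k).1 hk
    obtain ⟨g, hg⟩ := hU.exists_generator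
    have hUab : ∀ a ∈ U, ∀ b ∈ U, a * b = b * a := by
      intro a ha b hb
      obtain ⟨i, hi⟩ := hg ⟨a, ha⟩
      obtain ⟨j, hj⟩ := hg ⟨b, hb⟩
      have hi' : (g : Cfsg.Sz F m) ^ i = a := Subtype.ext_iff.1 hi
      have hj' : (g : Cfsg.Sz F m) ^ j = b := Subtype.ext_iff.1 hj
      rw [← hi', ← hj']
      exact ((Commute.refl (g : Cfsg.Sz F m)).zpow_zpow i j).eq
    obtain ⟨r, hr, hrU⟩ := h.ab_elem hUH hUn hUne hUab
    have hUr : Nat.card U = r := by
      have h3 : orderOf g = Nat.card U := orderOf_eq_card_of_forall_mem_zpowers hg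
      rw [← h3]
      apply (Nat.dvd_prime hr).1 (orderOf_dvd_of_pow_eq_one (Subtype.ext (hrU g g.2))) |>.resolve_left
      rw [h3]
      omega
    have h3 := card_le_of_prime hnab h hUH hUn hr hUr
    rw [hcard] at h3
    rw [hUr] at hUle hU5
    generalize 2 ^ (2 * m + 1) = q at *
    obtain ⟨x, rfl⟩ := Nat.exists_eq_add_of_le hq8
    obtain ⟨y, rfl⟩ : ∃ y, r = y + 1 := ⟨r - 1, by omega⟩
    have e1 : y + 1 - 1 = y := rfl
    have e2 : 8 + x - 1 = x + 7 := by omega
    rw [e1, e2] at h3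
    have h4 : 2 * (y + 1) ≤ 3 * x + 26 := by omega
    have h5 : 2 * y ≤ 3 * x + 24 := by omega
    have h6 : (2 * (y + 1)) ^ 3 * (2 * y) ≤ (3 * x + 26) ^ 3 * (3 * x + 24) :=
      Nat.mul_le_mul (Nat.pow_le_pow_left h4 3) h5
    have h7 : (2 * (y + 1)) ^ 3 * (2 * y) = 16 * ((y + 1) ^ 3 * y) := by ring
    rw [h7] at h6
    have h8 : 16 * ((8 + x) ^ 2 * ((8 + x) ^ 2 + 1) * (x + 7)) ≤ (3 * x + 26) ^ 3 * (3 * x + 24) :=
      (Nat.mul_le_mul_left 16 h3).trans h6
    have h9 : (3 * x + 26) ^ 3 * (3 * x + 24) < 16 * ((8 + x) ^ 2 * ((8 + x) ^ 2 + 1) * (x + 7)) := by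
      ring_nf
      nlinarith [Nat.zero_le x, Nat.zero_le (x ^ 2), Nat.zero_le (x ^ 3), Nat.zero_le (x ^ 4), Nat.zero_le (x ^ 5)]
    omega
  · exact no_sub hm hF (MulEquiv.refl _) hk hK hkm e h

/-- **`Sz(q)` is not extremely primitive.** -/
theorem no_sz (hG : Cfsg.Lie.IsoSuzuki G) {H : Subgroup G} (h : EP H) : False := by
  obtain ⟨F, _, _, m, hm, hF, ⟨e⟩⟩ := hG
  obtain ⟨i⟩ := Cfsg.Agent.OddCyclic.ClaimC.SzIso.iso hm hF
  have e' : G ≃* Cfsg.Sz F m := e.trans i.symm
  exact no_sz_model hm hF (ep_map e' h)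

end Cfsg.Agent.H247.EPR
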