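import Cfsg.Agent.H247.EPR.Core
import Cfsg.Agent.H101.SzSub
import Cfsg.Agent.S2247
import Cfsg.Agent.S2238
import Cfsg.Agent.S0330
import Cfsg.Agent.S0324
import Cfsg.Agent.S0325

/-!
# Extremely primitive groups: facts on `Sz(q)` for abstract groups (helper247)
-/

set_option autoImplicit false
set_option linter.unusedSectionVars false

namespace Cfsg.Agent.H247.EPR

open MulAction Subgroup Cfsg.Agent.H284

open scoped Pointwise

instance fact_two : Fact (Nat.Prime 2) := ⟨Nat.prime_two⟩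

/-- transport of a Sylow 2-subgroup -/
noncomputable def ms {Y Z : Type*} [Group Y] [Group Z] [Finite Y] (e : Y ≃* Z) (P : Sylow 2 Y) : Sylow 2 Z :=
  P.mapSurjective (f := (e : Y →* Z)) e.surjective

theorem coe_ms {Y Z : Type*} [Group Y] [Group Z] [Finite Y] (e : Y ≃* Z) (P : Sylow 2 Y) :
    (ms e P : Subgroup Z) = (P : Subgroup Y).map (e : Y →* Z) := Sylow.coe_mapSurjective _ _

theorem einj {Y Z : Type*} [Group Y] [Group Z] (e : Y ≃* Z) : Function.Injective (e : Y →* Z) := e.injective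

section

variable {K : Type*} [Field K] [Fintype K] {k : ℕ} (hk : 1 ≤ k) (hK : Fintype.card K = 2 ^ (2 * k + 1))

include hk hK

theorem sz_odd' : ∃ p : ℕ, p.Prime ∧ p ≠ 2 ∧ ∀ P : Sylow 2 (Cfsg.Sz K k),
    p ∣ Nat.card (Subgroup.normalizer ((P : Subgroup (Cfsg.Sz K k)) : Set (Cfsg.Sz K k))) := by
  have h8 : 8 ≤ 2 ^ (2 * k + 1) := by
    calc 8 = 2 ^ 3 := by norm_num
      _ ≤ _ := Nat.pow_le_pow_right (by norm_num) (by omega)
  obtain ⟨p, hp, hpd⟩ := Nat.exists_prime_and_dvd (n := 2 ^ (2 * k + 1) - 1) (by omega)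
  refine ⟨p, hp, ?_, ?_⟩
  · rintro rfl
    have h1 : 2 ∣ 2 ^ (2 * k + 1) := dvd_pow_self 2 (by omega)
    omega
  · intro P
    obtain ⟨S, -, hS⟩ := Cfsg.Agent.H101.SzSub.exists_sylow hk hK (Cfsg.Agent.H98.SzBasic.inf K k)
    have h1 : p ∣ Nat.card (stabilizer (Cfsg.Sz K k) (Cfsg.Agent.H98.SzBasic.inf K k)) := by
      have h4 : MulAction.stabilizer (Cfsg.Sz K k) (Cfsg.Agent.H98.SzBasic.inf K k) =
          MulAction.stabilizer (Cfsg.Sz K k) (Cfsg.suzukiPointInfinity K) := by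
        ext g
        rw [MulAction.mem_stabilizer_iff, MulAction.mem_stabilizer_iff]
        constructor
        · intro h
          have := congrArg (Subtype.val) h
          exact this
        · intro h
          exact Subtype.ext h
      rw [h4, Cfsg.Agent.LieExceptional.SuzukiSylow.card_stabilizer_infinity hk hK]
      exact hpd.mul_left _
    have h2 := h1.trans (Subgroup.card_dvd_of_le hS)
    obtain ⟨g, rfl⟩ := MulAction.exists_smul_eq (Cfsg.Sz K k) S P
    refine h2.trans (dvd_of_eq ?_)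
    apply Nat.card_congr
    refine ((Subgroup.normalizer ((S : Subgroup (Cfsg.Sz K k)) : Set (Cfsg.Sz K k))).equivMapOfInjective
      (MulAut.conj g).toMonoidHom (MulAut.conj g).injective).toEquiv.trans ?_
    apply Equiv.setCongr
    congr 1
    ext x
    constructor
    · rintro ⟨y, hy, rfl⟩
      have h3 := Sylow.smul_eq_iff_mem_normalizer.2 hy
      have h5 : MulAut.conj g y • g • S = g • S := by
        rw [MulAut.conj_apply, smul_smul, inv_mul_cancel_right, mul_smul, h3]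
      exact Sylow.smul_eq_iff_mem_normalizer.1 h5
    · intro hx
      have h3 := Sylow.smul_eq_iff_mem_normalizer.2 hx
      refine ⟨g⁻¹ * x * g, Sylow.smul_eq_iff_mem_normalizer.1 ?_, ?_⟩
      · rw [mul_smul, mul_smul, h3, inv_smul_smul]
      · show g * (g⁻¹ * x * g) * g⁻¹ = x
        group

theorem sz_comm' {y t : Cfsg.Sz K k} {j : ℕ} (hy : orderOf y = 2 ^ j) (hy1 : y ≠ 1) (ht : Odd (orderOf t)) (ht1 : t ≠ 1) :
    y * t ≠ t * y := by
  intro hc
  have hcm : Commute y t := hc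
  have hcop : Nat.Coprime (orderOf y) (orderOf t) := by
    rw [hy]
    exact Nat.Coprime.pow_left _ (Nat.coprime_two_left.2 ht)
  have hg : y * t ≠ 1 := by
    intro e
    have e1 : y = t⁻¹ := mul_eq_one_iff_eq_inv.1 e
    rw [e1, orderOf_inv, Nat.coprime_self] at hcop
    rw [orderOf_eq_one_iff] at hcop
    exact ht1 hcop
  obtain ⟨U, ⟨hU, hgU⟩, -⟩ := Cfsg.Agent.S2238.result hk hK (y * t) hg
  have h1 : (y * t) ^ orderOf y = t ^ orderOf y := by rw [hcm.mul_pow, pow_orderOf_eq_one, one_mul]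
  have h2 : (y * t) ^ orderOf t = y ^ orderOf t := by rw [hcm.mul_pow, pow_orderOf_eq_one, mul_one]
  have h3 : orderOf (t ^ orderOf y) = orderOf t := by
    rw [orderOf_pow, hcop.symm.gcd_eq_one, Nat.div_one]
  have h4 : orderOf (y ^ orderOf t) = orderOf y := by
    rw [orderOf_pow, hcop.gcd_eq_one, Nat.div_one]
  have h5 : orderOf t ∣ Nat.card U := by
    have h6 : t ^ orderOf y ∈ U := by rw [← h1]; exact U.pow_mem hgU _
    rw [← h3, ← Subgroup.orderOf_mk _ h6]
    exact orderOf_dvd_natCard _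
  have h6 : orderOf y ∣ Nat.card U := by
    have h6 : y ^ orderOf t ∈ U := by rw [← h2]; exact U.pow_mem hgU _
    rw [← h4, ← Subgroup.orderOf_mk _ h6]
    exact orderOf_dvd_natCard _
  rcases hU with ⟨P, rfl⟩ | ⟨-, hU⟩
  · obtain ⟨n, hn⟩ := P.isPGroup'.exists_card_eq
    rw [hn] at h5
    have h7 : Nat.Coprime (orderOf t) (orderOf t) :=
      Nat.Coprime.coprime_dvd_right h5 (Nat.Coprime.pow_right _ (Nat.coprime_two_right.2 ht))
    rw [Nat.coprime_self, orderOf_eq_one_iff] at h7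
    exact ht1 h7
  · have hodd : ¬ 2 ∣ Nat.card U := by
      have h7 : 2 ∣ 2 ^ (2 * k + 1) := dvd_pow_self 2 (by omega)
      have h8 : 2 ∣ 2 ^ (k + 1) := dvd_pow_self 2 (by omega)
      have h9 : 2 ^ (k + 1) ≤ 2 ^ (2 * k + 1) := Nat.pow_le_pow_right (by norm_num) (by omega)
      have h10 : 1 ≤ 2 ^ (2 * k + 1) := Nat.one_le_two_pow
      simp only [Set.mem_insert_iff, Set.mem_singleton_iff] at hU
      rcases hU with e | e | e <;> rw [e] <;> omega
    apply hodd
    refine dvd_trans ?_ h6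
    rw [hy]
    apply dvd_pow_self
    rintro rfl
    rw [pow_zero, orderOf_eq_one_iff] at hy
    exact hy1 hy

theorem sz_ti' {P P' : Sylow 2 (Cfsg.Sz K k)} {g : Cfsg.Sz K k} (hg : g ∈ P) (hg' : g ∈ P') (hg1 : g ≠ 1) : P = P' := by
  obtain ⟨U, -, hU⟩ := Cfsg.Agent.S2238.result hk hK g hg1
  have h1 := hU _ ⟨Or.inl ⟨P, rfl⟩, hg⟩
  have h2 := hU _ ⟨Or.inl ⟨P', rfl⟩, hg'⟩
  exact Sylow.ext (h1.trans h2.symm)

end

section Y

variable {K : Type*} [Field K] [Fintype K] {k : ℕ} (hk : 1 ≤ k) (hK : Fintype.card K = 2 ^ (2 * k + 1))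
  {Y : Type*} [Group Y] [Finite Y] (e : Y ≃* Cfsg.Sz K k)

include hk hK e

omit hk hK in
theorem norm_eq (P : Subgroup Y) : (Subgroup.normalizer (P : Set Y)).map (e : Y →* Cfsg.Sz K k) =
    Subgroup.normalizer ((P.map (e : Y →* Cfsg.Sz K k) : Subgroup (Cfsg.Sz K k)) : Set (Cfsg.Sz K k)) :=
  Subgroup.map_equiv_normalizer_eq P e

theorem sz_unique (P : Sylow 2 Y) {M : Subgroup Y} (hM : IsCoatom M) (hP : (P : Subgroup Y) ≤ M) :
    M = Subgroup.normalizer ((P : Subgroup Y) : Set Y) := by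
  have h1 := (Cfsg.Agent.S2247.result hk hK (ms e P)).2
    (M.map (e : Y →* Cfsg.Sz K k)) ((OrderIso.isCoatom_iff e.mapSubgroup M).2 hM) (by
      rw [coe_ms]
      exact Subgroup.map_mono hP)
  apply Subgroup.map_injective (einj e)
  rw [h1, norm_eq, coe_ms]

theorem sz_coatom (P : Sylow 2 Y) : IsCoatom (Subgroup.normalizer ((P : Subgroup Y) : Set Y)) := by
  have h1 := (Cfsg.Agent.S2247.result hk hK (ms e P)).1
  rw [coe_ms, ← norm_eq] at h1
  exact (OrderIso.isCoatom_iff e.mapSubgroup _).1 h1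

theorem sz_odd (P : Sylow 2 Y) : ∃ t ∈ Subgroup.normalizer ((P : Subgroup Y) : Set Y), t ≠ 1 ∧ Odd (orderOf t) := by
  obtain ⟨p, hp, hp2, h⟩ := sz_odd' hk hK
  have h1 := h (ms e P)
  rw [coe_ms, ← norm_eq, ← Nat.card_congr ((Subgroup.normalizer ((P : Subgroup Y) : Set Y)).equivMapOfInjective _ (einj e)).toEquiv] at h1
  have := Fact.mk hp
  obtain ⟨t, ht⟩ := exists_prime_orderOf_dvd_card' p h1
  refine ⟨t, t.2, ?_, ?_⟩
  · intro e1
    have : t = 1 := Subtype.ext e1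
    rw [this, orderOf_one] at ht
    exact hp.one_lt.ne ht
  · rw [Subgroup.orderOf_coe, ht]
    exact hp.odd_of_ne_two hp2

theorem sz_comm {y t : Y} {j : ℕ} (hy : orderOf y = 2 ^ j) (hy1 : y ≠ 1) (ht : Odd (orderOf t)) (ht1 : t ≠ 1) :
    y * t ≠ t * y := by
  intro h
  refine sz_comm' hk hK (y := e y) (t := e t) (j := j) ?_ ?_ ?_ ?_ ?_
  · rw [MulEquiv.orderOf_eq, hy]
  · rwa [Ne, map_eq_one_iff e e.injective]
  · rwa [MulEquiv.orderOf_eq]
  · rwa [Ne, map_eq_one_iff e e.injective]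
  · rw [← map_mul, h, map_mul]

theorem sz_ti {P P' : Sylow 2 Y} {g : Y} (hg : g ∈ P) (hg' : g ∈ P') (hg1 : g ≠ 1) : P = P' := by
  have h1 := sz_ti' hk hK (P := ms e P)
    (P' := ms e P') (g := e g) (by
      show e g ∈ (ms e P : Subgroup _)
      rw [coe_ms]
      exact ⟨g, hg, rfl⟩) (by
      show e g ∈ (ms e P' : Subgroup _)
      rw [coe_ms]
      exact ⟨g, hg', rfl⟩) (by rwa [Ne, map_eq_one_iff e e.injective])
  apply Sylow.ext
  apply Subgroup.map_injective (einj e)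
  have h2 := congrArg (fun S : Sylow 2 (Cfsg.Sz K k) => (S : Subgroup (Cfsg.Sz K k))) h1
  simp only [coe_ms] at h2
  exact h2

theorem sz_center (P : Sylow 2 Y) : Nat.card P = (2 ^ (2 * k + 1)) ^ 2 ∧ Nat.card (Subgroup.center P) = 2 ^ (2 * k + 1) := by
  obtain ⟨h1, -, -, h2⟩ := Cfsg.Agent.S0330.result hk hK (ms e P)
  have e1 : P ≃* ms e P := by
    refine ((P : Subgroup Y).equivMapOfInjective (e : Y →* Cfsg.Sz K k) (einj e)).trans (MulEquiv.subgroupCongr ?_)
    rw [coe_ms]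
  refine ⟨?_, ?_⟩
  · rw [← h1]
    exact Nat.card_congr e1.toEquiv
  · rw [← h2]
    exact Nat.card_congr (Subgroup.centerCongr e1).toEquiv

end Y

end Cfsg.Agent.H247.EPR
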